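import Groth.Agent.CIHilb.Degree
import Groth.Agent.FlatCI.Main
import Mathlib.FieldTheory.RatFunc.Basic

/-!
Extension of a homogeneous prime to the field of rational functions.
-/

set_option autoImplicit false
set_option linter.style.haveILetI false
set_option backward.isDefEq.respectTransparency false
set_option backward.isDefEq.respectTransparency.types false

universe u

set_option backward.isDefEq.respectTransparency true in
set_option backward.isDefEq.respectTransparency.types true in
theorem Groth.Agent.DegBound.isIntegrallyClosed_mvPoly (σ : Type*) (k : Type*) [Field k] :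
    IsIntegrallyClosed (MvPolynomial σ k) :=
  UniqueFactorizationMonoid.instIsIntegrallyClosed

open MvPolynomial
open Groth.Agent.CIHilb (hfun)

noncomputable section

namespace Groth.Agent.DegBound

variable {k : Type u} [Field k] {n : ℕ}

local notation "S" => MvPolynomial (Fin (n + 1)) k
local notation "H" => homogeneousSubmodule (Fin (n + 1)) k

/-- The Hilbert function as the dimension of an image. -/
theorem hfun_eq_finrank_map {V : Type*} [AddCommGroup V] [Module k V] (J : Ideal S) (m : ℕ) (f : S →ₗ[k] V)
    (hf : ∀ x ∈ H m, f x = 0 ↔ x ∈ J) : hfun J m = Module.finrank k ↥((H m).map f) := by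
  haveI := CIHilb.finite_homogeneous (k := k) (n := n) m
  let g := f.comp (H m).subtype
  have hr : LinearMap.range g = (H m).map f := by
    rw [LinearMap.range_comp, Submodule.range_subtype]
  have hk : (LinearMap.ker g).map (H m).subtype = J.restrictScalars k ⊓ H m := by
    ext x
    simp only [Submodule.mem_map, LinearMap.mem_ker, Submodule.mem_inf, Submodule.restrictScalars_mem]
    exact ⟨by rintro ⟨y, hy, rfl⟩; exact ⟨(hf _ y.2).1 hy, y.2⟩, fun ⟨hx, hxm⟩ => ⟨⟨x, hxm⟩, (hf x hxm).2 hx, rfl⟩⟩
  have h1 := LinearMap.finrank_range_add_finrank_ker g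
  have h2 : Module.finrank k (LinearMap.ker g) = Module.finrank k ↥(J.restrictScalars k ⊓ H m) :=
    ((Submodule.equivMapOfInjective _ (H m).injective_subtype _).trans (LinearEquiv.ofEq _ _ hk)).finrank_eq
  rw [hr, h2] at h1
  rw [hfun, ← h1]
  push_cast
  ring

/-- Independence over `k` in a domain `B` persists over `k(t)` in the fraction field of `B[t]`. -/
theorem indep_ratFunc {B : Type u} [CommRing B] [IsDomain B] [Algebra k B] {ι : Type*} (β : ι → B)
    (hβ : LinearIndependent k β) (ρ : RatFunc k →+* FractionRing (Polynomial B))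
    (hρ : ∀ g : Polynomial k, ρ (algebraMap (Polynomial k) (RatFunc k) g) =
      algebraMap (Polynomial B) (FractionRing (Polynomial B)) (g.map (algebraMap k B)))
    (f : ι →₀ RatFunc k)
    (h : (f.sum fun i a => ρ a * algebraMap (Polynomial B) (FractionRing (Polynomial B)) (Polynomial.C (β i))) = 0) :
    f = 0 := by
  classical
  obtain ⟨b, hb⟩ := IsLocalization.exist_integer_multiples (nonZeroDivisors (Polynomial k)) f.support f
  choose g hg using hb
  let g' : ι → Polynomial k := fun i => if hi : i ∈ f.support then g i hi else 0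
  have hg' : ∀ i ∈ f.support, algebraMap (Polynomial k) (RatFunc k) (g' i) =
      algebraMap (Polynomial k) (RatFunc k) (b : Polynomial k) * f i := fun i hi => by
    simp only [g', dif_pos hi, hg i hi, Algebra.smul_def]
  have h1 : ∑ i ∈ f.support, (g' i).map (algebraMap k B) * Polynomial.C (β i) = 0 := by
    apply IsFractionRing.injective (Polynomial B) (FractionRing (Polynomial B))
    rw [map_zero, map_sum]
    rw [Finset.sum_congr rfl (fun i hi => show _ = ρ (algebraMap (Polynomial k) (RatFunc k) (b : Polynomial k)) *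
        (ρ (f i) * algebraMap (Polynomial B) (FractionRing (Polynomial B)) (Polynomial.C (β i))) by
      rw [map_mul, ← hρ, hg' i hi, map_mul, mul_assoc]), ← Finset.mul_sum]
    exact mul_eq_zero_of_right _ h
  refine Finsupp.ext fun i => ?_
  by_contra hi
  have hi' : i ∈ f.support := Finsupp.mem_support_iff.2 hi
  have h0 : g' i = 0 := Polynomial.ext fun j => by
    have h2 := congrArg (fun p => Polynomial.coeff p j) h1
    simp only [Polynomial.finsetSum_coeff, Polynomial.coeff_mul_C, Polynomial.coeff_map, Polynomial.coeff_zero,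
      ← Algebra.smul_def] at h2
    rw [Polynomial.coeff_zero]
    exact (linearIndependent_iff'.1 hβ f.support (fun i => (g' i).coeff j) h2) i hi'
  have h3 := hg' i hi'
  rw [h0, map_zero, eq_comm, mul_eq_zero] at h3
  rcases h3 with h3 | h3
  · exact nonZeroDivisors.coe_ne_zero b (IsFractionRing.injective (Polynomial k) (RatFunc k) (h3.trans (map_zero _).symm))
  · exact hi h3

theorem exists_ratFuncHom (B : Type u) [CommRing B] [IsDomain B] [Algebra k B] :
    ∃ ρ : RatFunc k →+* FractionRing (Polynomial B), ∀ g : Polynomial k,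
      ρ (algebraMap (Polynomial k) (RatFunc k) g) =
        algebraMap (Polynomial B) (FractionRing (Polynomial B)) (g.map (algebraMap k B)) := by
  have hinj : Function.Injective
      ((algebraMap (Polynomial B) (FractionRing (Polynomial B))).comp (Polynomial.mapRingHom (algebraMap k B))) :=
    fun a b h => Polynomial.map_injective _ (algebraMap k B).injective
      (IsFractionRing.injective (Polynomial B) (FractionRing (Polynomial B)) h)
  exact ⟨RatFunc.liftRingHom _ (nonZeroDivisors_le_comap_nonZeroDivisors_of_injective _ hinj), fun g => by simp⟩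

theorem exists_infinite_base_aux (P : Ideal S) (hP : P.IsHomogeneous (CohB1.polyGrading n k))
    (B : Type u) [CommRing B] [IsDomain B] [Algebra k B] (π : S →ₐ[k] B) (hπ : ∀ x, π x = 0 ↔ x ∈ P) :
    ∃ (K : Type u) (_ : Field K) (_ : Infinite K) (Q : Ideal (MvPolynomial (Fin (n + 1)) K)),
      Q.IsPrime ∧ Q.IsHomogeneous (CohB1.polyGrading n K) ∧ ∀ m, hfun Q m = hfun P m := by
  classical
  letI L := FractionRing (Polynomial B)
  obtain ⟨ρ, hρ⟩ := exists_ratFuncHom (k := k) B
  let φ : B →+* L := (algebraMap (Polynomial B) L).comp Polynomial.C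
  letI : Algebra (RatFunc k) L := ρ.toAlgebra
  let Ψ : MvPolynomial (Fin (n + 1)) (RatFunc k) →ₐ[RatFunc k] L :=
    MvPolynomial.aeval fun i => φ (π (X i))
  have hC : ∀ c : k, ρ (algebraMap k (RatFunc k) c) = φ (algebraMap k B c) := fun c => by
    rw [IsScalarTower.algebraMap_apply k (Polynomial k) (RatFunc k), hρ]
    simp [φ, Polynomial.algebraMap_eq]
    rfl
  have hΨ : ∀ x : S, Ψ (MvPolynomial.map (algebraMap k (RatFunc k)) x) = φ (π x) := by
    intro x
    induction x using MvPolynomial.induction_on with
    | C a =>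
      rw [map_C, MvPolynomial.algHom_C, ← MvPolynomial.algebraMap_eq, AlgHom.commutes]
      exact hC a
    | add p q hp hq => simp only [map_add, hp, hq]
    | mul_X p i hp =>
      rw [map_mul, map_mul, hp, map_mul, map_mul, map_X]
      simp [Ψ]
  have hindep : ∀ {ι : Type u} (β : ι → B), LinearIndependent k β →
      LinearIndependent (RatFunc k) (fun i => φ (β i)) := fun {ι} β hβ => by
    rw [linearIndependent_iff]
    intro f hf
    refine indep_ratFunc β hβ ρ hρ f ?_
    rw [← hf, Finsupp.linearCombination_apply]
    rfl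
  let J := P.map (MvPolynomial.map (algebraMap k (RatFunc k)))
  have hle : J ≤ RingHom.ker Ψ.toRingHom := Ideal.map_le_iff_le_comap.2 fun x hx => by
    simp only [Ideal.mem_comap, RingHom.mem_ker, AlgHom.toRingHom_eq_coe, RingHom.coe_coe, hΨ,
      (hπ x).2 hx, map_zero]
  obtain ⟨C', hC'⟩ := Submodule.exists_isCompl (P.restrictScalars k)
  let b := Module.Free.chooseBasis k C'
  let f : _ → MvPolynomial (Fin (n + 1)) (RatFunc k) := fun i => MvPolynomial.map (algebraMap k (RatFunc k)) (b i : S)
  have hspan : ∀ F : MvPolynomial (Fin (n + 1)) (RatFunc k),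
      F ∈ J.restrictScalars (RatFunc k) ⊔ Submodule.span (RatFunc k) (Set.range f) := by
    intro F
    rw [F.as_sum]
    refine sum_mem fun d _ => ?_
    rw [show monomial d (coeff d F) = coeff d F • MvPolynomial.map (algebraMap k (RatFunc k)) (monomial d 1) by
      rw [map_monomial, map_one, smul_monomial, smul_eq_mul, mul_one]]
    refine Submodule.smul_mem _ _ ?_
    obtain ⟨p, hp, c, hc, hpc⟩ := Submodule.mem_sup.1 (hC'.sup_eq_top.ge (Submodule.mem_top : monomial d (1 : k) ∈ _))
    rw [← hpc, map_add]
    refine Submodule.add_mem_sup (Ideal.mem_map_of_mem _ hp) ?_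
    have hb : ((Finsupp.linearCombination k b (b.repr ⟨c, hc⟩) : C') : S) = c :=
      congrArg Subtype.val (b.linearCombination_repr ⟨c, hc⟩)
    rw [← hb, Finsupp.linearCombination_apply, Finsupp.sum, AddSubmonoidClass.coe_finsetSum, map_sum]
    refine sum_mem fun i _ => ?_
    rw [Submodule.coe_smul, Algebra.smul_def, map_mul, MvPolynomial.algebraMap_eq, map_C,
      show C (algebraMap k (RatFunc k) (b.repr ⟨c, hc⟩ i)) * f i = algebraMap k (RatFunc k) (b.repr ⟨c, hc⟩ i) • f i
        from (MvPolynomial.smul_eq_C_mul _ _).symm]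
    exact Submodule.smul_mem _ _ (Submodule.subset_span ⟨i, rfl⟩)
  have hker : RingHom.ker Ψ.toRingHom = J := by
    refine le_antisymm (fun F hF => ?_) hle
    obtain ⟨p, hp, c, hc, rfl⟩ := Submodule.mem_sup.1 (hspan F)
    obtain ⟨a, rfl⟩ := Finsupp.mem_span_range_iff_exists_finsupp.1 hc
    have hp0 : Ψ p = 0 := hle hp
    have h1 : Ψ (a.sum fun i x => x • f i) = 0 := by
      simpa [map_add, hp0] using hF
    have hβ : LinearIndependent k fun i => π (b i : S) := by
      refine (b.linearIndependent.map' (π.toLinearMap.comp C'.subtype) ?_ : _)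
      refine LinearMap.ker_eq_bot'.2 fun x hx => Subtype.ext ?_
      exact (Submodule.disjoint_def.1 hC'.disjoint) x ((hπ _).1 hx) x.2
    have h2 : a = 0 := by
      refine linearIndependent_iff.1 (hindep _ hβ) a ?_
      rw [Finsupp.linearCombination_apply, ← h1, Finsupp.sum, Finsupp.sum, map_sum]
      exact Finset.sum_congr rfl fun i _ => by rw [map_smul, hΨ]
    simpa [h2] using hp
  haveI : (RingHom.ker Ψ.toRingHom).IsPrime := RingHom.ker_isPrime _
  refine ⟨RatFunc k, inferInstance, Infinite.of_injective _ (IsFractionRing.injective (Polynomial k) (RatFunc k)),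
    RingHom.ker Ψ.toRingHom, inferInstance, hker ▸ FlatCI.map_isHomogeneous _ hP, fun m => ?_⟩
  rw [hfun_eq_finrank_map (RingHom.ker Ψ.toRingHom) m Ψ.toLinearMap (fun x _ => Iff.rfl),
    hfun_eq_finrank_map P m π.toLinearMap (fun x _ => hπ x)]
  set V := (H m).map π.toLinearMap with hV
  haveI := CIHilb.finite_homogeneous (k := k) (n := n) m
  haveI : Module.Finite k V := inferInstance
  let c := Module.Free.chooseBasis k V
  have hc : LinearIndependent k fun i => (c i : B) := c.linearIndependent.map' V.subtype V.ker_subtype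
  have hc' := hindep _ hc
  have hspanV : (homogeneousSubmodule (Fin (n + 1)) (RatFunc k) m).map Ψ.toLinearMap =
      Submodule.span (RatFunc k) (Set.range fun i => φ (c i)) := by
    refine le_antisymm ?_ (Submodule.span_le.2 ?_)
    · rintro _ ⟨F, hF, rfl⟩
      rw [AlgHom.toLinearMap_apply, F.as_sum, map_sum]
      refine sum_mem fun d hd => ?_
      rw [show monomial d (coeff d F) = coeff d F • MvPolynomial.map (algebraMap k (RatFunc k)) (monomial d 1) by
        rw [map_monomial, map_one, smul_monomial, smul_eq_mul, mul_one], map_smul, hΨ]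
      refine Submodule.smul_mem _ _ ?_
      have hd' : π (monomial d (1 : k)) ∈ V :=
        ⟨_, isHomogeneous_monomial _ (by
          rw [← hF (mem_support_iff.1 hd), Finsupp.weight_apply]
          simp [Finsupp.degree, Finsupp.sum]), rfl⟩
      have hr := congrArg (fun x : V => φ (x : B)) (c.linearCombination_repr ⟨_, hd'⟩)
      rw [Finsupp.linearCombination_apply, Finsupp.sum, AddSubmonoidClass.coe_finsetSum, map_sum] at hr
      refine hr ▸ sum_mem fun i _ => ?_
      rw [Submodule.coe_smul, Algebra.smul_def, map_mul, ← hC]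
      exact Submodule.smul_mem _ _ (Submodule.subset_span ⟨i, rfl⟩)
    · rintro _ ⟨i, rfl⟩
      obtain ⟨x, hx, hxc⟩ := (c i).2
      refine ⟨MvPolynomial.map (algebraMap k (RatFunc k)) x, (show x.IsHomogeneous m from hx).map _, ?_⟩
      rw [AlgHom.toLinearMap_apply, hΨ]
      exact congrArg φ hxc
  rw [hspanV, finrank_span_eq_card hc', Module.finrank_eq_card_chooseBasisIndex]

/-- A homogeneous prime stays a homogeneous prime with the same Hilbert function over an infinite field. -/
theorem exists_infinite_base (P : Ideal S) [P.IsPrime] (hP : P.IsHomogeneous (CohB1.polyGrading n k)) :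
    ∃ (K : Type u) (_ : Field K) (_ : Infinite K) (Q : Ideal (MvPolynomial (Fin (n + 1)) K)),
      Q.IsPrime ∧ Q.IsHomogeneous (CohB1.polyGrading n K) ∧ ∀ m, hfun Q m = hfun P m :=
  exists_infinite_base_aux P hP (S ⧸ P) (Ideal.Quotient.mkₐ k P) fun _ => Ideal.Quotient.eq_zero_iff_mem

end Groth.Agent.DegBound
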