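import Mathlib

/-!
Tools for uniform degree bounds: bounded-degree generation, reduction to domains, universal polynomials,
and extension of linear maps along coefficient base change.
-/

set_option autoImplicit false
set_option linter.style.haveILetI false

universe u v

namespace Groth.Agent.DegBound

open MvPolynomial

variable {σ : Type}

/-- The ideal `J` is generated by its elements of total degree at most `R`. -/
def GenLE {k : Type u} [CommRing k] (J : Ideal (MvPolynomial σ k)) (R : ℕ) : Prop :=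
  J ≤ Ideal.span {q | q ∈ J ∧ q.totalDegree ≤ R}

theorem GenLE.mono {k : Type u} [CommRing k] {J : Ideal (MvPolynomial σ k)} {R R' : ℕ}
    (h : GenLE J R) (hR : R ≤ R') : GenLE J R' :=
  h.trans (Ideal.span_mono fun _ hq => ⟨hq.1, hq.2.trans hR⟩)

theorem totalDegree_map_le {A : Type u} {k : Type v} [CommSemiring A] [CommSemiring k] (φ : A →+* k)
    (p : MvPolynomial σ A) : (map φ p).totalDegree ≤ p.totalDegree :=
  Finset.sup_mono (MvPolynomial.support_map_subset φ p)

/-- Noetherian induction: it is enough to bound uniformly over a nonempty open of each integral quotient. -/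
theorem uniform {A : Type u} [CommRing A] [IsNoetherianRing A]
    (Q : (k : Type u) → [Field k] → (A →+* k) → ℕ → Prop)
    (hmono : ∀ (k : Type u) [Field k] (φ : A →+* k) (R R' : ℕ), Q k φ R → R ≤ R' → Q k φ R')
    (hQ : ∀ (B : Type u) [CommRing B] [IsDomain B] [IsNoetherianRing B] (q : A →+* B),
      ∃ b : B, b ≠ 0 ∧ ∃ R : ℕ, ∀ (k : Type u) [Field k] [Algebra B k], algebraMap B k b ≠ 0 →
        Q k ((algebraMap B k).comp q) R) :
    ∃ R : ℕ, ∀ (k : Type u) [Field k] (φ : A →+* k), Q k φ R := by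
  suffices H : ∀ a : Ideal A, ∃ R : ℕ, ∀ (k : Type u) [Field k] (φ : A →+* k), a ≤ RingHom.ker φ → Q k φ R by
    obtain ⟨R, hR⟩ := H ⊥
    exact ⟨R, fun k _ φ => hR k φ bot_le⟩
  intro a
  induction a using IsNoetherian.induction with | hgt a ih =>
  by_cases htop : a = ⊤
  · refine ⟨0, fun k _ φ hφ => absurd (hφ (htop ▸ (Submodule.mem_top : (1 : A) ∈ ⊤))) ?_⟩
    simp [RingHom.mem_ker]
  by_cases hp : Ideal.IsPrime a
  · obtain ⟨b, hb, R₁, hR₁⟩ := hQ (A ⧸ a) (Ideal.Quotient.mk a)
    obtain ⟨b₀, rfl⟩ := Ideal.Quotient.mk_surjective b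
    have hlt : a < a ⊔ Ideal.span {b₀} := left_lt_sup.2 fun h =>
      hb (Ideal.Quotient.eq_zero_iff_mem.2 (h (Ideal.mem_span_singleton_self b₀)))
    obtain ⟨R₂, hR₂⟩ := ih _ hlt
    refine ⟨max R₁ R₂, fun k _ φ hφ => ?_⟩
    by_cases h0 : φ b₀ = 0
    · exact hmono k φ R₂ _ (hR₂ k φ (sup_le hφ ((Ideal.span_singleton_le_iff_mem (RingHom.ker φ)).2 h0)))
        (le_max_right _ _)
    · letI : Algebra (A ⧸ a) k := (Ideal.Quotient.lift a φ hφ).toAlgebra
      have := hR₁ k (by simpa [RingHom.algebraMap_toAlgebra] using h0)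
      rw [show (algebraMap (A ⧸ a) k).comp (Ideal.Quotient.mk a) = φ from RingHom.ext fun x => rfl] at this
      exact hmono k φ R₁ _ this (le_max_left _ _)
  · obtain ⟨x, hx, y, hy, hxy⟩ : ∃ x, x ∉ a ∧ ∃ y, y ∉ a ∧ x * y ∈ a := by
      by_contra hne
      push Not at hne
      exact hp ⟨htop, fun {x y} h => or_iff_not_imp_left.2 fun hx => by_contra fun hy => hne x hx y hy h⟩
    obtain ⟨R₁, hR₁⟩ := ih (a ⊔ Ideal.span {x})
      (left_lt_sup.2 fun h => hx (h (Ideal.mem_span_singleton_self x)))
    obtain ⟨R₂, hR₂⟩ := ih (a ⊔ Ideal.span {y})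
      (left_lt_sup.2 fun h => hy (h (Ideal.mem_span_singleton_self y)))
    refine ⟨max R₁ R₂, fun k _ φ hφ => ?_⟩
    have h0 : φ x * φ y = 0 := by rw [← map_mul]; exact hφ hxy
    rcases mul_eq_zero.1 h0 with h | h
    · exact hmono k φ R₁ _ (hR₁ k φ (sup_le hφ ((Ideal.span_singleton_le_iff_mem (RingHom.ker φ)).2 h)))
        (le_max_left _ _)
    · exact hmono k φ R₂ _ (hR₂ k φ (sup_le hφ ((Ideal.span_singleton_le_iff_mem (RingHom.ker φ)).2 h)))
        (le_max_right _ _)

/-- The exponent vectors with all exponents at most `d`. -/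
abbrev Mon (N d : ℕ) : Type := Fin N → Fin (d + 1)

/-- An exponent vector as a finitely supported function. -/
noncomputable def Mon.toFinsupp {N d : ℕ} (s : Mon N d) : Fin N →₀ ℕ :=
  Finsupp.equivFunOnFinite.symm fun i => (s i : ℕ)

theorem eq_sum_mon {k : Type u} [CommRing k] {N d : ℕ} (p : MvPolynomial (Fin N) k) (hp : p.totalDegree ≤ d) :
    p = ∑ s : Mon N d, monomial s.toFinsupp (p.coeff s.toFinsupp) := by
  classical
  ext t
  rw [coeff_sum]
  by_cases ht : ∀ i, t i ≤ d
  · let s₀ : Mon N d := fun i => ⟨t i, Nat.lt_succ_of_le (ht i)⟩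
    have h₀ : s₀.toFinsupp = t := Finsupp.ext fun i => rfl
    rw [Finset.sum_eq_single s₀]
    · rw [coeff_monomial, if_pos h₀, h₀]
    · intro s _ hs
      rw [coeff_monomial, if_neg]
      intro h
      apply hs
      funext i
      exact Fin.ext (congrArg (fun f : Fin N →₀ ℕ => f i) h)
    · simp
  · rw [Finset.sum_eq_zero fun s _ => by
      rw [coeff_monomial, if_neg]
      intro h
      exact ht fun i => h ▸ Nat.le_of_lt_succ (s i).2]
    by_contra hne
    apply ht
    intro i
    exact ((degreeOf_le_iff).1 le_rfl t (mem_support_iff.2 hne)).trans ((degreeOf_le_totalDegree p i).trans hp)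

/-- The coefficient ring of universal polynomials indexed by `ι`. -/
abbrev Univ (ι : Type) (N d : ℕ) : Type u := MvPolynomial (ι × Mon N d) (ULift.{u} ℤ)

theorem isNoetherianRing_univ (ι : Type) [Finite ι] (N d : ℕ) : IsNoetherianRing (Univ.{u} ι N d) := by
  haveI : IsNoetherianRing (ULift.{u} ℤ) := isNoetherianRing_of_ringEquiv ℤ ULift.ringEquiv.symm
  infer_instance

/-- The universal polynomials. -/
noncomputable def univPoly (ι : Type) (N d : ℕ) (i : ι) : MvPolynomial (Fin N) (Univ.{u} ι N d) :=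
  ∑ s : Mon N d, monomial s.toFinsupp (X (i, s))

theorem exists_map_univPoly {ι : Type} {N d : ℕ} {k : Type u} [CommRing k] (p : ι → MvPolynomial (Fin N) k)
    (hp : ∀ i, (p i).totalDegree ≤ d) :
    ∃ φ : Univ.{u} ι N d →+* k, ∀ i, map φ (univPoly ι N d i) = p i := by
  refine ⟨eval₂Hom ((Int.castRingHom k).comp (ULift.ringEquiv (R := ℤ)).toRingHom)
    (fun x => (p x.1).coeff x.2.toFinsupp), fun i => ?_⟩
  rw [univPoly, map_sum]
  simp only [map_monomial, eval₂Hom_X']
  exact (eq_sum_mon (p i) (hp i)).symm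

section Lift

variable {A : Type u} [CommRing A] {S : Type u} [CommRing S] [Algebra A S] {ι : Type}

/-- Change of coefficients, componentwise. -/
noncomputable def pi (A S : Type u) [CommRing A] [CommRing S] [Algebra A S] (σ ι : Type) :
    (ι → MvPolynomial σ A) →ₗ[A] (ι → MvPolynomial σ S) :=
  LinearMap.compLeft (mapAlgHom (σ := σ) (Algebra.ofId A S)).toLinearMap ι

theorem pi_apply (c : ι → MvPolynomial σ A) (i : ι) : pi A S σ ι c i = map (algebraMap A S) (c i) := rfl

theorem pi_smul (q : MvPolynomial σ A) (c : ι → MvPolynomial σ A) :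
    pi A S σ ι (q • c) = map (algebraMap A S) q • pi A S σ ι c :=
  funext fun i => by simp [pi_apply]

theorem exists_lift [Finite ι] {P : Type u} [AddCommGroup P] [Module A P] [Module S P] [IsScalarTower A S P]
    (h : (ι → MvPolynomial σ A) →ₗ[A] P) :
    ∃ G : (ι → MvPolynomial σ S) →ₗ[S] P, ∀ c, G (pi A S σ ι c) = h c := by
  classical
  haveI := Fintype.ofFinite ι
  let bA := Pi.basis fun _ : ι => basisMonomials σ A
  let bS := Pi.basis fun _ : ι => basisMonomials σ S
  have hb : ∀ x, pi A S σ ι (bA x) = bS x := by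
    rintro ⟨i, s⟩
    funext j
    simp only [pi_apply, bA, bS, Pi.basis_apply, coe_basisMonomials]
    by_cases hj : j = i
    · subst hj; simp
    · simp [Pi.single_eq_of_ne hj]
  refine ⟨bS.constr S fun x => h (bA x), fun c => ?_⟩
  have : ((bS.constr S fun x => h (bA x)).restrictScalars A) ∘ₗ pi A S σ ι = h :=
    bA.ext fun x => by
      simp only [LinearMap.comp_apply, LinearMap.restrictScalars_apply, hb, Module.Basis.constr_basis]
  exact LinearMap.congr_fun this c

theorem span_range_pi [Finite ι] : Submodule.span S (Set.range (pi A S σ ι)) = ⊤ := by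
  classical
  haveI := Fintype.ofFinite ι
  let bS := Pi.basis fun _ : ι => basisMonomials σ S
  rw [eq_top_iff, ← bS.span_eq]
  refine Submodule.span_mono ?_
  rintro _ ⟨⟨i, s⟩, rfl⟩
  refine ⟨Pi.single i (monomial s 1), ?_⟩
  funext j
  simp only [pi_apply, bS, Pi.basis_apply, coe_basisMonomials]
  by_cases hj : j = i
  · subst hj; simp
  · simp [Pi.single_eq_of_ne hj]

end Lift

end Groth.Agent.DegBound
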