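import Groth.Agent.DegBound.Syzygy

/-!
Uniform degree bounds for contractions of ideals along finite extensions of fields.
-/

set_option autoImplicit false
set_option linter.style.haveILetI false

universe u

namespace Groth.Agent.DegBound

open MvPolynomial

section Coord

variable {σ κ : Type} [Fintype κ] {k k' : Type u} [Field k] [Field k'] [Algebra k k'] (b : Module.Basis κ k k')

/-- Recombine coordinates. -/
noncomputable def theta (c : κ → MvPolynomial σ k) : MvPolynomial σ k' :=
  ∑ i, C (b i) * map (algebraMap k k') (c i)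

/-- Coordinates of a polynomial over the extension. -/
noncomputable def crd (p : MvPolynomial σ k') (i : κ) : MvPolynomial σ k :=
  ∑ s ∈ p.support, monomial s (b.repr (p.coeff s) i)

omit [Fintype κ] in
theorem coeff_crd (p : MvPolynomial σ k') (i : κ) (t : σ →₀ ℕ) :
    (crd b p i).coeff t = b.repr (p.coeff t) i := by
  classical
  simp only [crd, coeff_sum, coeff_monomial, Finset.sum_ite_eq']
  by_cases h : t ∈ p.support
  · rw [if_pos h]
  · rw [if_neg h, notMem_support_iff.1 h, map_zero, Finsupp.zero_apply]

omit [Fintype κ] in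
theorem totalDegree_crd_le (p : MvPolynomial σ k') (i : κ) : (crd b p i).totalDegree ≤ p.totalDegree := by
  classical
  refine Finset.sup_mono fun t ht => ?_
  rw [mem_support_iff, coeff_crd] at ht
  rw [mem_support_iff]
  intro h
  exact ht (by rw [h, map_zero, Finsupp.zero_apply])

theorem coeff_theta (c : κ → MvPolynomial σ k) (t : σ →₀ ℕ) :
    (theta b c).coeff t = ∑ i, (c i).coeff t • b i := by
  simp only [theta, coeff_sum, coeff_C_mul, coeff_map, Algebra.smul_def]
  exact Finset.sum_congr rfl fun i _ => mul_comm _ _

theorem theta_crd (p : MvPolynomial σ k') : theta b (crd b p) = p := by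
  ext t
  simp only [coeff_theta, coeff_crd, Module.Basis.sum_repr]

theorem theta_injective : Function.Injective (theta (σ := σ) b) := by
  intro c c' h
  funext i
  ext t
  have h1 := congrArg (fun p : MvPolynomial σ k' => b.repr (p.coeff t) i) h
  simpa only [coeff_theta, Module.Basis.repr_sum_self] using h1

theorem theta_smul (q : MvPolynomial σ k) (c : κ → MvPolynomial σ k) :
    theta b (q • c) = map (algebraMap k k') q * theta b c := by
  simp only [theta, Pi.smul_apply, smul_eq_mul, map_mul, Finset.mul_sum]
  exact Finset.sum_congr rfl fun i _ => by ring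

theorem theta_zero : theta b (0 : κ → MvPolynomial σ k) = 0 := by simp [theta]

theorem theta_sum {ι : Type} (s : Finset ι) (c : ι → κ → MvPolynomial σ k) :
    theta b (∑ j ∈ s, c j) = ∑ j ∈ s, theta b (c j) := by
  simp only [theta, Finset.sum_apply, map_sum, Finset.mul_sum]
  exact Finset.sum_comm

theorem theta_linearCombination {ι : Type} [Fintype ι] (v : ι → κ → MvPolynomial σ k) (c : ι → MvPolynomial σ k) :
    theta b (Fintype.linearCombination (MvPolynomial σ k) v c) =
      ∑ j, map (algebraMap k k') (c j) * theta b (v j) := by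
  simp only [Fintype.linearCombination_apply, theta_sum, theta_smul]

include b in
/-- The contraction of an extended ideal is the ideal. -/
theorem comap_map_eq (I : Ideal (MvPolynomial σ k)) :
    (I.map (map (σ := σ) (algebraMap k k'))).comap (map (σ := σ) (algebraMap k k')) = I := by
  refine le_antisymm (fun h hh => ?_) Ideal.le_comap_map
  have hne : b.repr 1 ≠ 0 := fun h0 => one_ne_zero (b.repr.map_eq_zero_iff.1 h0)
  obtain ⟨i₀, hi₀⟩ := Finsupp.ne_iff.1 hne
  rw [Finsupp.zero_apply] at hi₀
  let e : κ → MvPolynomial σ k := fun i => C (b.repr 1 i)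
  have he : theta b e = 1 := by
    simp only [theta, e, map_C, ← map_mul, ← map_sum]
    rw [← C_1, C_inj]
    conv_rhs => rw [← b.sum_repr 1]
    exact Finset.sum_congr rfl fun i _ => by rw [Algebra.smul_def, mul_comm]
  have key : ∀ x ∈ I.map (map (σ := σ) (algebraMap k k')), ∀ i, crd b x i ∈ I := by
    have : ∀ x ∈ I.map (map (σ := σ) (algebraMap k k')),
        ∃ c : κ → MvPolynomial σ k, (∀ i, c i ∈ I) ∧ theta b c = x := by
      intro x hx
      induction hx using Submodule.span_induction with
      | mem x hx =>
        obtain ⟨y, hy, rfl⟩ := hx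
        exact ⟨y • e, fun i => I.mul_mem_right _ hy, by rw [theta_smul, he, mul_one]⟩
      | zero => exact ⟨0, fun _ => I.zero_mem, theta_zero b⟩
      | add x y _ _ hx hy =>
        obtain ⟨c, hc, rfl⟩ := hx
        obtain ⟨c', hc', rfl⟩ := hy
        exact ⟨c + c', fun i => add_mem (hc i) (hc' i), by
          simp only [theta, Pi.add_apply, map_add, mul_add, Finset.sum_add_distrib]⟩
      | smul q x _ hx =>
        obtain ⟨c, hc, rfl⟩ := hx
        refine ⟨fun l => ∑ i, crd b (q * C (b i)) l * c i, fun l => I.sum_mem fun i _ => I.mul_mem_left _ (hc i), ?_⟩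
        have : (fun l => ∑ i, crd b (q * C (b i)) l * c i) = ∑ i, c i • crd b (q * C (b i)) :=
          funext fun l => by simp [Finset.sum_apply, mul_comm]
        rw [this, theta_sum]
        simp only [theta_smul, theta_crd]
        simp only [theta, smul_eq_mul, Finset.mul_sum]
        exact Finset.sum_congr rfl fun i _ => by ring
    intro x hx i
    obtain ⟨c, hc, rfl⟩ := this x hx
    rw [show crd b (theta b c) = c from theta_injective b (theta_crd b _)]
    exact hc i
  have h2 := key _ hh i₀
  have h3 : crd b (map (algebraMap k k') h) = h • e :=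
    theta_injective b (by rw [theta_crd, theta_smul, he, mul_one])
  rw [h3, Pi.smul_apply, smul_eq_mul] at h2
  have h4 := I.mul_mem_right (C (b.repr 1 i₀)⁻¹) h2
  rwa [mul_assoc, ← C_mul, mul_inv_cancel₀ hi₀, C_1, mul_one] at h4

end Coord

/-- Uniform bound for contractions along extensions of bounded degree. -/
theorem exists_contract_bound (N d r D : ℕ) :
    ∃ R : ℕ, ∀ (k k' : Type u) [Field k] [Field k'] [Algebra k k'] [FiniteDimensional k k']
      (g : Fin r → MvPolynomial (Fin N) k'), Module.finrank k k' ≤ D → (∀ j, (g j).totalDegree ≤ d) →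
      GenLE ((Ideal.span (Set.range g)).comap (map (σ := Fin N) (algebraMap k k'))) R := by
  classical
  choose Rf hRf using fun n : ℕ => exists_syz_bound.{u} N d (Option (Fin n × Fin r)) (Fin n)
  refine ⟨(Finset.range (D + 1)).sup Rf, fun k k' _ _ _ _ g hn hg => ?_⟩
  refine GenLE.mono (R := Rf (Module.finrank k k')) ?_ (Finset.le_sup (Finset.mem_range.2 (Nat.lt_succ_of_le hn)))
  let b := Module.finBasis k k'
  let v : Option (Fin (Module.finrank k k') × Fin r) → Fin (Module.finrank k k') → MvPolynomial (Fin N) k :=
    fun j => j.elim (crd b 1) fun x => crd b (C (b x.1) * g x.2)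
  have hv : ∀ j i, (v j i).totalDegree ≤ d := by
    rintro (_ | ⟨x, y⟩) i
    · exact (totalDegree_crd_le b _ i).trans (by simp)
    · refine (totalDegree_crd_le b _ i).trans ((totalDegree_mul _ _).trans ?_)
      rw [totalDegree_C, zero_add]
      exact hg y
  have hsyz := hRf (Module.finrank k k') k v hv
  intro h hh
  obtain ⟨q, hq⟩ := (Ideal.mem_span_range_iff_exists_fun).1 (Ideal.mem_comap.1 hh)
  let c : Option (Fin (Module.finrank k k') × Fin r) → MvPolynomial (Fin N) k :=
    fun j => j.elim (-h) fun x => crd b (q x.2) x.1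
  have hc : c ∈ LinearMap.ker (Fintype.linearCombination (MvPolynomial (Fin N) k) v) := by
    apply theta_injective b
    rw [theta_linearCombination, theta_zero, Fintype.sum_option, Fintype.sum_prod_type_right]
    simp only [c, v, Option.elim, theta_crd, map_neg, mul_one]
    rw [neg_add_eq_zero, ← hq]
    refine Finset.sum_congr rfl fun y _ => ?_
    calc q y * g y = theta b (crd b (q y)) * g y := by rw [theta_crd]
      _ = _ := by
        simp only [theta, Finset.sum_mul]
        exact Finset.sum_congr rfl fun i _ => by ring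
  have h1 := hsyz hc
  let P : (Option (Fin (Module.finrank k k') × Fin r) → MvPolynomial (Fin N) k) →ₗ[MvPolynomial (Fin N) k]
      MvPolynomial (Fin N) k := -LinearMap.proj none
  have h2 := Submodule.mem_map_of_mem (f := P) h1
  rw [Submodule.map_span] at h2
  have h3 : P c = h := by simp [P, c]
  rw [h3] at h2
  refine Submodule.span_mono ?_ h2
  rintro _ ⟨z, ⟨hz, hz'⟩, rfl⟩
  refine ⟨?_, le_trans (totalDegree_neg _).le (hz' none)⟩
  rw [Ideal.mem_comap]
  have h4 := congrArg (theta b) (LinearMap.mem_ker.1 hz)
  rw [theta_linearCombination, theta_zero, Fintype.sum_option] at h4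
  simp only [v, Option.elim, theta_crd, mul_one] at h4
  have h5 : map (algebraMap k k') (P z) = ∑ x : Fin (Module.finrank k k') × Fin r,
      map (algebraMap k k') (z (some x)) * (C (b x.1) * g x.2) := by
    rw [show P z = -z none from rfl, map_neg, neg_eq_iff_add_eq_zero]
    exact h4
  rw [h5]
  exact Ideal.sum_mem _ fun x _ =>
    Ideal.mul_mem_left _ _ (Ideal.mul_mem_left _ _ (Ideal.subset_span ⟨x.2, rfl⟩))

end Groth.Agent.DegBound
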