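import Groth.Agent.DegBound.Base

/-!
Rational zeros of a homogeneous ideal are bounded by its Hilbert function beyond `n (q - 1)`.
-/

set_option autoImplicit false
set_option linter.style.haveILetI false
set_option backward.isDefEq.respectTransparency false

universe u

open MvPolynomial
open Groth.Agent.CIHilb (hfun)

noncomputable section

namespace Groth.Agent.DegBound

variable {k : Type u} [Field k] {n : ℕ}

/-- The form separating the line of `v` from all others. -/
def sepForm (q : ℕ) (v : Fin (n + 1) → k) (l : Fin (n + 1)) : MvPolynomial (Fin (n + 1)) k :=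
  X l * ∏ j ∈ Finset.univ.erase l, (X l ^ (q - 1) - (X j - C (v j) * X l) ^ (q - 1))

theorem sepForm_isHomogeneous (q : ℕ) (v : Fin (n + 1) → k) (l : Fin (n + 1)) :
    (sepForm q v l).IsHomogeneous (n * (q - 1) + 1) := by
  have h : ∀ j ∈ Finset.univ.erase l,
      ((X l : MvPolynomial (Fin (n + 1)) k) ^ (q - 1) - (X j - C (v j) * X l) ^ (q - 1)).IsHomogeneous (q - 1) :=
    fun j _ => by
      have hl : ((X l : MvPolynomial (Fin (n + 1)) k)).IsHomogeneous 1 := isHomogeneous_X k l
      have h1 : ((X l : MvPolynomial (Fin (n + 1)) k) ^ (q - 1)).IsHomogeneous (q - 1) := by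
        simpa using hl.pow (q - 1)
      have h2 : ((X j - C (v j) * X l : MvPolynomial (Fin (n + 1)) k) ^ (q - 1)).IsHomogeneous (q - 1) := by
        simpa using ((isHomogeneous_X k j).sub (hl.C_mul (v j))).pow (q - 1)
      exact h1.sub h2
  have := (isHomogeneous_X k l).mul (IsHomogeneous.prod (Finset.univ.erase l) _ (fun _ => q - 1) h)
  simp only [Finset.sum_const, Finset.card_erase_of_mem (Finset.mem_univ l), Finset.card_univ, Fintype.card_fin,
    smul_eq_mul, Nat.add_sub_cancel] at this
  exact (Nat.add_comm 1 (n * (q - 1)) ▸ this : IsHomogeneous (X l * _) (n * (q - 1) + 1))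

variable [Finite k]

theorem eval_sepForm {v w : Fin (n + 1) → k} {l : Fin (n + 1)} (hv : v l = 1)
    (h : eval w (sepForm (Nat.card k) v l) ≠ 0) : w = w l • v := by
  simp only [sepForm, map_mul, map_prod, map_sub, map_pow, eval_X, eval_C, mul_ne_zero_iff,
    Finset.prod_ne_zero_iff] at h
  funext j
  rcases eq_or_ne j l with rfl | hj
  · simp [hv]
  · by_contra hne
    haveI := Fintype.ofFinite k
    have hq : ∀ a : k, a ≠ 0 → a ^ (Nat.card k - 1) = 1 := fun a ha => by
      rw [Nat.card_eq_fintype_card]
      exact FiniteField.pow_card_sub_one_eq_one a ha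
    refine h.2 j (Finset.mem_erase.2 ⟨hj, Finset.mem_univ j⟩) ?_
    rw [hq _ h.1, hq _ ?_, sub_self]
    intro h0
    exact hne (by simpa [mul_comm] using sub_eq_zero.1 h0)

theorem eval_sepForm_self (v : Fin (n + 1) → k) (l : Fin (n + 1)) (hv : v l = 1) :
    eval v (sepForm (Nat.card k) v l) ≠ 0 := by
  have h2 : Nat.card k - 1 ≠ 0 := by have := Finite.one_lt_card (α := k); omega
  simp [sepForm, map_prod, hv, zero_pow h2]

/-- Distinct rational lines annihilated by `P` are no more than the Hilbert function in degree `n (q - 1) + 1`. -/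
theorem natCard_le_hfun {ι : Type*} [Finite ι] (P : Ideal (MvPolynomial (Fin (n + 1)) k))
    (v : ι → Fin (n + 1) → k) (l : ι → Fin (n + 1)) (hv : ∀ a, v a (l a) = 1)
    (hinj : ∀ a b, ∀ c : k, v a = c • v b → a = b)
    (hP : ∀ F ∈ P, F.IsHomogeneous (n * (Nat.card k - 1) + 1) → ∀ a, eval (v a) F = 0) :
    (Nat.card ι : ℤ) ≤ hfun P (n * (Nat.card k - 1) + 1) := by
  classical
  haveI := Fintype.ofFinite ι
  set N := n * (Nat.card k - 1) + 1 with hN
  haveI := CIHilb.finite_homogeneous (k := k) (n := n) N
  let H := homogeneousSubmodule (Fin (n + 1)) k N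
  let E : H →ₗ[k] (ι → k) := LinearMap.pi fun a => (aeval (v a)).toLinearMap.comp H.subtype
  have hE : ∀ (x : H) (a : ι), E x a = eval (v a) (x : MvPolynomial (Fin (n + 1)) k) := fun x a => by
    simp [E]
  have hsurj : LinearMap.range E = ⊤ := by
    refine top_le_iff.1 ((Pi.basisFun k ι).span_eq.ge.trans (Submodule.span_le.2 ?_))
    rintro _ ⟨a, rfl⟩
    let s : H := ⟨sepForm (Nat.card k) (v a) (l a), sepForm_isHomogeneous _ _ _⟩
    refine ⟨(eval (v a) (sepForm (Nat.card k) (v a) (l a)))⁻¹ • s, funext fun b => ?_⟩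
    rw [map_smul, Pi.smul_apply, hE, Pi.basisFun_apply, smul_eq_mul]
    rcases eq_or_ne b a with rfl | hb
    · rw [Pi.single_eq_same, inv_mul_cancel₀ (eval_sepForm_self _ _ (hv b))]
    · rw [Pi.single_eq_of_ne hb]
      refine mul_eq_zero_of_right _ ?_
      by_contra hne
      exact hb (hinj b a _ (eval_sepForm (hv a) hne))
  have hker : (P.restrictScalars k).comap H.subtype ≤ LinearMap.ker E := fun x hx =>
    funext fun a => (hE x a).trans (hP _ hx x.2 a)
  have h1 := LinearMap.finrank_range_add_finrank_ker E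
  rw [hsurj, finrank_top, Module.finrank_fintype_fun_eq_card, ← Nat.card_eq_fintype_card] at h1
  have h2 := Submodule.finrank_mono hker
  have h3 : Module.finrank k ((P.restrictScalars k).comap H.subtype) = Module.finrank k ↥(P.restrictScalars k ⊓ H) :=
    ((Submodule.equivMapOfInjective _ H.injective_subtype _).trans (LinearEquiv.ofEq _ _
      (Submodule.map_comap_eq _ _ |>.trans (by rw [Submodule.range_subtype, inf_comm])))).finrank_eq
  change (Nat.card ι : ℤ) ≤ (Module.finrank k H : ℤ) - Module.finrank k ↥(P.restrictScalars k ⊓ H)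
  omega

end Groth.Agent.DegBound
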