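import Groth.Agent.DegBound.Norm
import Groth.Agent.DegBound.Points
import Groth.Agent.StabLib.Sheaf
import Groth.Agent.CohFinite.Ample
import Groth.Agent.HodgeCI.CIFacts
import Groth.Agent.W7Proj.NotAmple
import Groth.Agent.ProjClosed.Main
import Groth.Agent.SerrePn.LinForms
import Groth.Agent.Cones.Proj
import Groth.Agent.Intersect.Hyper
import Groth.Agent.BpfCover.Basic
import Groth.Prelude.Def_SgaExt
import Groth.Prelude.Def_FGA

/-!
A uniform bound for the rational points of a subvariety of projective space of bounded degree.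
-/

set_option autoImplicit false
set_option linter.style.haveILetI false
set_option linter.unusedSectionVars false
set_option backward.isDefEq.respectTransparency false
set_option backward.isDefEq.respectTransparency.types false
set_option maxHeartbeats 1000000

universe u

open CategoryTheory AlgebraicGeometry HomogeneousLocalization MvPolynomial
open Groth.Agent.CurveRR (secMod secH0)
open Groth.Agent.CIHilb (hfun IsHP)
open scoped Nat

noncomputable section

namespace Groth.Agent.DegBound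

variable {k : Type u} [Field k] {n : ℕ}

local notation "S" => MvPolynomial (Fin (n + 1)) k
local notation "ℋ" => CohB1.polyGrading n k

theorem exists_chart (p : Proj ℋ) : ∃ l, p ∈ Proj.basicOpen ℋ (X l : S) := by
  by_contra hc
  push Not at hc
  refine p.not_irrelevant_le fun q hq => ?_
  have hle : HomogIdeal.mIdeal k n ≤ p.asHomogeneousIdeal.toIdeal :=
    Ideal.span_le.2 (by rintro _ ⟨j, rfl⟩; exact not_not.mp (hc j))
  exact hle (HomogIdeal.irrelevant_eq (k := k) ▸ hq)

/-- A rational point is an evaluation on the first chart containing it. -/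
theorem exists_vec (g : Spec (CommRingCat.of k) ⟶ CohB1.ProjSpace n k)
    (hg : g ≫ CohB1.ProjSpace.toSpec n k = 𝟙 _) :
    ∃ (v : Fin (n + 1) → k) (l : Fin (n + 1)), v l = 1 ∧ (∀ j < l, v j = 0) ∧
      (∃ ψ : Away ℋ (X l : S) →+* k,
        g = Spec.map (CommRingCat.ofHom ψ) ≫ Proj.awayι ℋ (X l : S) (FlatCI.X_mem l) one_pos ∧
        ∀ F : S, ψ (FlatCI.deh l F) = eval v F) ∧
      ∀ (F : S) (m : ℕ), F.IsHomogeneous m → 0 < m →
        g.base default ∉ Proj.basicOpen ℋ F → eval v F = 0 := by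
  classical
  have hne := exists_chart (g.base default)
  let s := Finset.univ.filter fun l : Fin (n + 1) => g.base default ∈ Proj.basicOpen ℋ (X l : S)
  have hs : s.Nonempty := hne.elim fun l hl => ⟨l, by simp [s, hl]⟩
  let l := s.min' hs
  have hl : g.base default ∈ Proj.basicOpen ℋ (X l : S) := (Finset.mem_filter.1 (s.min'_mem hs)).2
  let aι := Proj.awayι ℋ (X l : S) (FlatCI.X_mem l) one_pos
  have hrange : Set.range g.base ⊆ Set.range aι.base := by
    rintro _ ⟨y, rfl⟩
    rw [Subsingleton.elim y default]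
    exact (Proj.opensRange_awayι ℋ (X l : S) (FlatCI.X_mem l) one_pos).ge hl
  let ψ : CommRingCat.of (Away ℋ (X l : S)) ⟶ CommRingCat.of k := Spec.preimage (IsOpenImmersion.lift aι g hrange)
  have hψ : g = Spec.map ψ ≫ aι := by rw [Spec.map_preimage, IsOpenImmersion.lift_fac]
  let v : Fin (n + 1) → k := fun j => ψ.hom (FlatCI.deh l (X j))
  have hC : ∀ a : k, ψ.hom (FlatCI.awayC (X l : S) a) = a := fun a => by
    have h1 : Spec.map (CommRingCat.ofHom (algebraMap k (CohB1.polyGrading n k 0)) ≫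
        CommRingCat.ofHom (fromZeroRingHom ℋ (Submonoid.powers (X l : S))) ≫ ψ) = Spec.map (𝟙 _) := by
      rw [Spec.map_comp, Spec.map_comp, Spec.map_id, ← hg, CohB1.ProjSpace.toSpec, hψ]
      simp only [Category.assoc]
      rw [Proj.awayι_toSpecZero_assoc]
    exact ConcreteCategory.congr_hom (Spec.map_injective h1) a
  have hev : ∀ F : S, ψ.hom (FlatCI.deh l F) = eval v F := by
    intro F
    induction F using MvPolynomial.induction_on with
    | C a => simp [FlatCI.deh, hC a]
    | add p q hp hq => simp [hp, hq]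
    | mul_X p i hp => simp only [map_mul, hp, eval_X]; rfl
  have hzero : ∀ (F : S) (m : ℕ), F.IsHomogeneous m → 0 < m →
      g.base default ∉ Proj.basicOpen ℋ F → eval v F = 0 := by
    intro F m hF hm hnot
    have h1 : g ⁻¹ᵁ Proj.basicOpen ℋ F = ⊥ := by
      refine le_bot_iff.1 fun y hy => hnot ?_
      rw [Subsingleton.elim y default] at hy
      exact hy
    rw [hψ, Scheme.Hom.comp_preimage, Proj.awayι_preimage_basicOpen (f_deg := FlatCI.X_mem l)
      (hm := one_pos) (g_deg := show F ∈ ℋ m from hF) (hm' := hm)] at h1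
    have h2 : ¬ ψ.hom (Away.isLocalizationElem (FlatCI.X_mem l) (show F ∈ ℋ m from hF)) ≠ 0 := by
      intro hne0
      have hy : (default : Spec (CommRingCat.of k)) ∈
          Spec.map ψ ⁻¹ᵁ PrimeSpectrum.basicOpen (Away.isLocalizationElem (FlatCI.X_mem l) (show F ∈ ℋ m from hF)) := by
        refine fun hmem => hne0 ?_
        have hbot : (default : Spec (CommRingCat.of k)).asIdeal = ⊥ :=
          (Ideal.eq_bot_or_top _).resolve_right (default : Spec (CommRingCat.of k)).isPrime.ne_top
        have hmem' : ψ.hom (Away.isLocalizationElem (FlatCI.X_mem l) (show F ∈ ℋ m from hF)) ∈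
            (default : Spec (CommRingCat.of k)).asIdeal := hmem
        rw [hbot] at hmem'
        exact Ideal.mem_bot.1 hmem'
      rw [h1] at hy
      exact hy
    have e : FlatCI.deh l F = Away.isLocalizationElem (FlatCI.X_mem l) (show F ∈ ℋ m from hF) := by
      rw [FlatCI.deh_form l (show F ∈ ℋ (m • 1) by simpa using hF)]
      apply val_injective
      simp [Away.isLocalizationElem, Away.val_mk]
    rw [← hev, e]
    exact not_not.1 h2
  refine ⟨v, l, ?_, fun j hj => ?_, ⟨ψ.hom, hψ, hev⟩, hzero⟩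
  · change ψ.hom (FlatCI.deh l (X l)) = 1
    rw [FlatCI.deh_form l (show (X l : S) ∈ ℋ (1 • 1) from FlatCI.X_mem l)]
    have e : Away.mk ℋ (FlatCI.X_mem l) 1 (X l : S) (show (X l : S) ∈ ℋ (1 • 1) from FlatCI.X_mem l) = 1 := by
      apply val_injective
      rw [val_one, Away.val_mk]
      simp only [pow_one]
      exact Localization.mk_self ⟨(X l : S), Submonoid.mem_powers _⟩
    rw [e, map_one]
  · have hnot : g.base default ∉ Proj.basicOpen ℋ (X j : S) := fun h =>
      (not_le.2 hj) (s.min'_le j (by simp [s, h]))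
    simpa using hzero (X j) 1 (isHomogeneous_X k j) one_pos hnot

theorem deh_surjective (l : Fin (n + 1)) : Function.Surjective (FlatCI.deh (A := k) l) := fun a => by
  obtain ⟨m, F, hF, rfl⟩ := Away.mk_surjective ℋ (FlatCI.X_mem l) a
  exact ⟨F, FlatCI.deh_form l hF⟩

theorem eq_of_vec (g g' : Spec (CommRingCat.of k) ⟶ CohB1.ProjSpace n k) (v : Fin (n + 1) → k) (l : Fin (n + 1))
    (h : ∃ ψ : Away ℋ (X l : S) →+* k,
      g = Spec.map (CommRingCat.ofHom ψ) ≫ Proj.awayι ℋ (X l : S) (FlatCI.X_mem l) one_pos ∧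
      ∀ F : S, ψ (FlatCI.deh l F) = eval v F)
    (h' : ∃ ψ : Away ℋ (X l : S) →+* k,
      g' = Spec.map (CommRingCat.ofHom ψ) ≫ Proj.awayι ℋ (X l : S) (FlatCI.X_mem l) one_pos ∧
      ∀ F : S, ψ (FlatCI.deh l F) = eval v F) : g = g' := by
  obtain ⟨ψ, rfl, hv⟩ := h
  obtain ⟨ψ', rfl, hv'⟩ := h'
  rw [show ψ = ψ' from RingHom.ext fun a => by obtain ⟨F, rfl⟩ := deh_surjective l a; rw [hv, hv']]

variable {X : Scheme.{u}} (ι : X ⟶ CohB1.ProjSpace n k)

/-- The prime of forms vanishing at the generic point. -/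
def genIdeal [IsIntegral X] : Ideal (MvPolynomial (Fin (n + 1)) k) :=
  (show ProjectiveSpectrum ℋ from ι.base (genericPoint X)).asHomogeneousIdeal.toIdeal

instance [IsIntegral X] : (genIdeal ι).IsPrime :=
  (show ProjectiveSpectrum ℋ from ι.base (genericPoint X)).isPrime

theorem genIdeal_isHomogeneous [IsIntegral X] : (genIdeal ι).IsHomogeneous ℋ :=
  (show ProjectiveSpectrum ℋ from ι.base (genericPoint X)).asHomogeneousIdeal.isHomogeneous

theorem genIdeal_le [IsIntegral X] (x : X) :
    genIdeal ι ≤ (show ProjectiveSpectrum ℋ from ι.base x).asHomogeneousIdeal.toIdeal :=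
  (ProjectiveSpectrum.le_iff_mem_closure ℋ (show ProjectiveSpectrum ℋ from ι.base (genericPoint X))
    (show ProjectiveSpectrum ℋ from ι.base x)).2 (((genericPoint_specializes x).map ι.base.hom.continuous).mem_closure)

/-- Forms whose pulled back section vanishes lie in the prime of the generic point. -/
theorem mem_genIdeal [IsIntegral X] {F : MvPolynomial (Fin (n + 1)) k} {m : ℕ} (hF : F ∈ ℋ m) (hm : 0 < m)
    (h : ProjUP.pullSec ι (Twist.twist ℋ (m : ℤ)) (ProjClosed.sect hF) = 0) : F ∈ genIdeal ι := by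
  by_contra hmem
  set p : Proj ℋ := ι.base (genericPoint X)
  obtain ⟨l, hl⟩ := exists_chart p
  have h0 := ProjClosed.app_deh_eq_zero ι (ProjMor.genDegOne_projSpace n k) (FlatCI.X_mem l) hF h
  have h1 : ι ⁻¹ᵁ (Proj ℋ).basicOpen (GrT.deh ℋ (FlatCI.X_mem l) F) = ⊥ :=
    (Scheme.preimage_basicOpen ι _).trans ((congrArg X.basicOpen h0).trans (Scheme.basicOpen_zero _ _))
  have h2 : p ∈ (Proj ℋ).basicOpen (GrT.deh ℋ (FlatCI.X_mem l) F) := by
    have hF' : F ∈ ℋ (m • 1) := GrT.mem_smul_one ℋ hF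
    have e : Away.mk ℋ (FlatCI.X_mem l) m F hF' = Away.isLocalizationElem (FlatCI.X_mem l) hF := by
      simp [Away.isLocalizationElem]
    rw [GrT.deh_of_mem ℋ (FlatCI.X_mem l) hF, GrT.away, e,
      ProjLib.basicOpen_awayToSection ℋ hF (FlatCI.X_mem l) hm one_pos, Proj.basicOpen_mul]
    exact ⟨hl, (ProjectiveSpectrum.mem_basicOpen ℋ F p).2 hmem⟩
  exact (h1 ▸ (h2 : genericPoint X ∈ ι ⁻¹ᵁ (Proj ℋ).basicOpen (GrT.deh ℋ (FlatCI.X_mem l) F)) :
    genericPoint X ∈ (⊥ : X.Opens))

variable [X.Over (Spec (CommRingCat.of k))] [IsProper (X ↘ Spec (CommRingCat.of k))]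
  (hι : ι ≫ CohB1.ProjSpace.toSpec n k = X ↘ Spec (CommRingCat.of k))

include hι in
/-- Forms of degree `m` modulo the vanishing ones inject into the sections of `O(m)`. -/
theorem hfun_le_h0 [IsIntegral X] {m : ℕ} (hm : 0 < m) :
    hfun (genIdeal ι) m ≤ (CurveRR.h k ((Scheme.Modules.pullback ι).obj (Twist.twistProjSpace n k (m : ℤ))) 0 : ℤ) := by
  haveI := CurveRR.isNoetherian_of_proper k X
  let M := (Scheme.Modules.pullback ι).obj (Twist.twistProjSpace n k (m : ℤ))
  have hM : PicF.IsInvertible M := HodgeCI.isInvertible_tw ι (m : ℤ)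
  letI := secMod k M ⊤
  haveI hfH : Module.Finite k (Coh.HH X M 0) := CohFinite.finite_proper k X M (CurveRR.isCoh_of_inv hM) 0
  haveI : Module.Finite k Γ(M, ⊤) := Module.Finite.equiv (secH0 (k := k) M).symm
  haveI := CIHilb.finite_homogeneous (k := k) (n := n) m
  let H := homogeneousSubmodule (Fin (n + 1)) k m
  let T : H →ₗ[k] Γ(M, ⊤) :=
    { toFun := fun F => (ProjUP.pullSec ι (Twist.twistProjSpace n k (m : ℤ)) (ProjClosed.sect (𝒜 := ℋ) F.2) : Γ(M, ⊤))
      map_add' := fun F F' => by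
        change ProjUP.pullSec ι (Twist.twist ℋ (m : ℤ)) (GrT.degSection (𝒜 := ℋ) ((ℋ m).add_mem F.2 F'.2)) = _
        rw [SerrePn.degSection_add]
        exact map_add ((Scheme.Modules.pullbackPushforwardAdjunction ι).unit.app
          (Twist.twistProjSpace n k (m : ℤ)) |>.app ⊤).hom _ _
      map_smul' := fun c F => by
        change ProjUP.pullSec ι (Twist.twist ℋ (m : ℤ)) (GrT.degSection (𝒜 := ℋ) ((ℋ m).smul_mem c F.2)) = _
        rw [SerrePn.degSection_smul (fun x => ProjMor.exists_notMem (ProjMor.genDegOne_projSpace n k) x)]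
        refine (OmegaSh.pullSect_smul ι _ ⊤ _ _).trans ?_
        refine congrArg (fun x : Γ(X, ⊤) => x • (show Γ(M, ⊤) from ProjUP.pullSec ι (Twist.twistProjSpace n k (m : ℤ))
          (ProjClosed.sect (𝒜 := ℋ) F.2))) ?_
        show ι.appTop (Coh.toGlobal (CohB1.ProjSpace.toSpec n k) c) =
          Groth.Agent.QC.resO X le_rfl (Coh.toGlobal (X ↘ Spec (CommRingCat.of k)) c)
        rw [Groth.Agent.QC.resO_self, ← hι]
        simp [Coh.toGlobal]
        rfl }
  have hker : LinearMap.ker T ≤ ((genIdeal ι).restrictScalars k).comap H.subtype := fun F hF =>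
    mem_genIdeal ι F.2 hm hF
  have h1 := LinearMap.finrank_range_add_finrank_ker T
  have h2 := Submodule.finrank_mono hker
  have h3 : Module.finrank k (((genIdeal ι).restrictScalars k).comap H.subtype) =
      Module.finrank k ↥((genIdeal ι).restrictScalars k ⊓ H) :=
    ((Submodule.equivMapOfInjective _ H.injective_subtype _).trans (LinearEquiv.ofEq _ _
      (Submodule.map_comap_eq _ _ |>.trans (by rw [Submodule.range_subtype, inf_comm])))).finrank_eq
  have h4 : Module.finrank k (LinearMap.range T) ≤ Module.finrank k Γ(M, ⊤) := Submodule.finrank_le _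
  rw [CurveRR.finrank_sec] at h4
  change (Module.finrank k H : ℤ) - Module.finrank k ↥((genIdeal ι).restrictScalars k ⊓ H) ≤ (CurveRR.h k M 0 : ℤ)
  omega

theorem le_dim_genIdeal [IsIntegral X] [IsClosedImmersion ι] {r : ℕ} (hr : topologicalKrullDim X = r) :
    ((r + 1 : ℕ) : WithBot ℕ∞) ≤ ringKrullDim (MvPolynomial (Fin (n + 1)) k ⧸ genIdeal ι) := by
  let Z : Set (ProjectiveSpectrum ℋ) := Set.range ι.base
  have hZ : IsClosed Z := ι.isClosedEmbedding.isClosed_range
  have h := Cones.topDim_succ_le hZ (D := ringKrullDim (MvPolynomial (Fin (n + 1)) k ⧸ genIdeal ι)) fun x hx => by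
    obtain ⟨y, rfl⟩ := hx
    exact ⟨genIdeal ι, genIdeal_le ι y, le_rfl⟩
  rw [show topologicalKrullDim ↥Z = topologicalKrullDim X from
    (IsHomeomorph.topologicalKrullDim_eq _ ι.isEmbedding.toHomeomorph.isHomeomorph).symm, hr] at h
  exact_mod_cast h

include hι in
theorem exists_hp [IsIntegral X] [IsClosedImmersion ι] {r d : ℕ} (hr : topologicalKrullDim X = r)
    (hd : FGA.intNum k X r (fun _ : Fin r => HodgeCI.tw ι (-1)) (Coh.structureModule X) ≤ d) :
    ∃ Q : Polynomial ℚ, IsHP (genIdeal ι) Q ∧ Q ≠ 0 ∧ Q.natDegree = r ∧ (r ! : ℚ) * Q.coeff r ≤ d := by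
  haveI := CurveRR.isNoetherian_of_proper k X
  let L := HodgeCI.tw ι 1
  have hL : CohB1.IsAmple L := TMul.isAmple_pullback ι ι.isClosedEmbedding.isInducing (Intersect.isAmple_twistProj_one n k)
  have hO : Coh.IsCoh (Coh.structureModule X) := CurveRR.isCoh_of_inv (HodgeCI.isInvertible_tw ι 0) |> fun h =>
    CohFinite.isCoh_of_iso (HodgeCI.nonempty_tw_zero ι).some h
  have hdim : topologicalKrullDim (CohB1.support (Coh.structureModule X)) ≤ (r : WithBot ℕ∞) :=
    (topologicalKrullDim_subspace_le X _).trans hr.le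
  obtain ⟨e₁⟩ := HodgeCI.nonempty_cancel_tw ι
  let q := StabLib.Sh.hp k L (Coh.structureModule X)
  have hq : ShStab.IsHilbPoly k X L (Coh.structureModule X) q := StabLib.Sh.isHilbPoly_hp k hL.1 hO
  have hqdeg : q.natDegree ≤ r := StabLib.Sh.natDegree_hp_le k hL.1 hO hdim
  have hqc : (r ! : ℚ) * q.coeff r ≤ d := by
    have ha : StabCat.alpha r q = FGA.intNum k X r (fun _ : Fin r => HodgeCI.tw ι (-1)) (Coh.structureModule X) := by
      rw [show q = _ from StabLib.Sh.hp_eq_cand k hL.1 (HodgeCI.isInvertible_tw ι (-1))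
        (TMul.commIso _ _ ≪≫ e₁) hO hdim, StabLib.Sh.alpha_cand, Intersect.intNum_eq_alt k r hr.le]
    change StabCat.alpha r q ≤ (d : ℚ)
    rw [ha]
    exact_mod_cast hd
  obtain ⟨m₀, hm₀⟩ := CohFinite.vanish_ample (X ↘ Spec (CommRingCat.of k)) hL hO
  have hle : ∀ m, m₀ + 1 ≤ m → (hfun (genIdeal ι) m : ℚ) ≤ q.eval (m : ℚ) := fun m hm => by
    rw [← hq m, ShStab.twist]
    have h1 := CurveRR.euler_eq_h0 (k := k) (F := CohB1.tensorMod (Coh.structureModule X) (CohB1.tensorPow L m))
      fun i hi => by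
        obtain ⟨p, rfl⟩ : ∃ p, i = p + 1 := ⟨i - 1, by omega⟩
        exact hm₀ m (by omega) p
    obtain ⟨e₂⟩ := TMul.nonempty_pullPowIso ι (Twist.twistProjSpace n k 1) m
    obtain ⟨e₃⟩ := W7Proj.nonempty_powTwist n k 1 m
    have e : CohB1.tensorMod (Coh.structureModule X) (CohB1.tensorPow L m) ≅
        (Scheme.Modules.pullback ι).obj (Twist.twistProjSpace n k (m : ℤ)) :=
      TMul.leftUnitIso _ ≪≫ e₂ ≪≫ (Scheme.Modules.pullback ι).mapIso (e₃ ≪≫ eqToIso (by rw [mul_one]))
    have h2 : CurveRR.h k (CohB1.tensorMod (Coh.structureModule X) (CohB1.tensorPow L m)) 0 =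
        CurveRR.h k ((Scheme.Modules.pullback ι).obj (Twist.twistProjSpace n k (m : ℤ))) 0 := CurveRR.h_eq_of_iso e 0
    rw [h1, h2]
    exact_mod_cast hfun_le_h0 ι hι (m := m) (by omega)
  obtain ⟨Q, hQ, hpos, -, hgood⟩ := CIHilb.good _ (genIdeal_isHomogeneous ι)
  have hdimP := le_dim_genIdeal ι hr
  have hQ0 : Q ≠ 0 := by
    rintro rfl
    have h0 : ∀ᶠ m : ℕ in Filter.atTop, (hfun (genIdeal ι) m : ℚ) = 0 := by simpa [IsHP] using hQ
    obtain ⟨m, hm, hm1⟩ := (h0.and (Filter.eventually_ge_atTop 1)).exists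
    obtain ⟨l, hl⟩ := exists_chart (ι.base (genericPoint X))
    have hone := CIHilb.one_le_hfun (J := genIdeal ι) ((isHomogeneous_X k l).pow m)
      (fun hmem => hl (Ideal.IsPrime.mem_of_pow_mem inferInstance m hmem))
    rw [one_mul] at hone
    have : (1 : ℚ) ≤ 0 := hm ▸ (by exact_mod_cast hone)
    linarith
  rw [hgood hQ0, Nat.cast_le] at hdimP
  have hev : ∀ᶠ m : ℕ in Filter.atTop, Q.eval (m : ℚ) ≤ q.eval (m : ℚ) :=
    ((Filter.eventually_ge_atTop (m₀ + 1)).and hQ).mono fun m hm => hm.2 ▸ hle m hm.1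
  have hpQ : 0 < Q.leadingCoeff := hpos.resolve_left hQ0
  have key : ∀ {G : Polynomial ℚ}, (∀ᶠ m : ℕ in Filter.atTop, 0 ≤ G.eval (m : ℚ)) → 0 ≤ G.leadingCoeff := by
    intro G hG
    by_contra hneg
    push Not at hneg
    rcases Nat.eq_zero_or_pos G.natDegree with h0 | h0
    · obtain ⟨m, hm⟩ := hG.exists
      rw [Polynomial.eq_C_of_natDegree_eq_zero h0, Polynomial.eval_C] at hm
      rw [Polynomial.leadingCoeff, h0] at hneg
      linarith
    · obtain ⟨m, hm, hm'⟩ := (hG.and (((Polynomial.tendsto_atBot_of_leadingCoeff_nonpos G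
        (Polynomial.natDegree_pos_iff_degree_pos.1 h0) hneg.le).comp (tendsto_natCast_atTop_atTop (R := ℚ))).eventually
          (Filter.eventually_lt_atBot 0))).exists
      exact absurd hm (not_le.2 hm')
  have hdiff := key (G := q - Q) (hev.mono fun m hm => by rw [Polynomial.eval_sub]; linarith)
  have hdeg : Q.natDegree = r := by
    refine le_antisymm ?_ (by omega)
    by_contra hgt
    push Not at hgt
    have hd' : (q - Q).natDegree = Q.natDegree := by
      rw [← neg_sub, Polynomial.natDegree_neg, Polynomial.natDegree_sub_eq_left_of_natDegree_lt (by omega)]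
    rw [Polynomial.leadingCoeff, hd', Polynomial.coeff_sub, Polynomial.coeff_eq_zero_of_natDegree_lt (by omega)] at hdiff
    rw [Polynomial.leadingCoeff] at hpQ
    linarith
  refine ⟨Q, hQ, hQ0, hdeg, le_trans (mul_le_mul_of_nonneg_left ?_ (by positivity)) hqc⟩
  by_contra hlt
  push Not at hlt
  have hc : (q - Q).coeff r < 0 := by rw [Polynomial.coeff_sub]; linarith
  rw [Polynomial.leadingCoeff, le_antisymm ((Polynomial.natDegree_sub_le _ _).trans (max_le hqdeg hdeg.le))
    (Polynomial.le_natDegree_of_ne_zero hc.ne)] at hdiff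
  linarith

include hι in
theorem pointCount_le [Finite k] [IsIntegral X] [IsClosedImmersion ι] {r d : ℕ} (hd0 : 0 < d)
    (hr : topologicalKrullDim X = r)
    (hd : FGA.intNum k X r (fun _ : Fin r => HodgeCI.tw ι (-1)) (Coh.structureModule X) ≤ d) :
    SgaExt.pointCount (ι ≫ CohB1.ProjSpace.toSpec n k) k ≤ d ^ (n + 1) * (n + r + 1) ^ r * Nat.card k ^ r := by
  obtain ⟨Q, hQ, hQ0, hQr, hQd⟩ := exists_hp ι hι hr hd
  set T := { g : Spec (CommRingCat.of k) ⟶ X //
    g ≫ ι ≫ CohB1.ProjSpace.toSpec n k = Spec.map (CommRingCat.ofHom (algebraMap k k)) }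
  rcases finite_or_infinite T with hT | hT
  · have hg : ∀ g : T, (g.1 ≫ ι) ≫ CohB1.ProjSpace.toSpec n k = 𝟙 _ := fun g => by
      rw [Category.assoc, g.2, Algebra.algebraMap_self, ← Spec.map_id]
      rfl
    choose v l hv hlt hrep hzero using fun g : T => exists_vec (g.1 ≫ ι) (hg g)
    have hinj : ∀ a b, ∀ c : k, v a = c • v b → a = b := by
      intro a b c h
      have hc : c ≠ 0 := fun h0 => by
        have := congrFun h (l a)
        simp [hv, h0] at this
      have hll : l a = l b := by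
        refine le_antisymm ?_ ?_
        · by_contra hgt
          push Not at hgt
          have := congrFun h (l b)
          simp [hlt a _ hgt, hv] at this
          exact hc this.symm
        · by_contra hgt
          push Not at hgt
          have := congrFun h (l a)
          simp [hlt b _ hgt, hv] at this
      have hc1 : c = 1 := by
        have := congrFun h (l a)
        rw [hv, Pi.smul_apply, hll, hv, smul_eq_mul, mul_one] at this
        exact this.symm
      rw [hc1, one_smul] at h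
      exact Subtype.ext ((cancel_mono ι).1 (eq_of_vec _ _ (v a) (l a) (hrep a) (hll ▸ h ▸ hrep b)))
    have h1 := natCard_le_hfun (genIdeal ι) v l hv hinj fun F hF hhom a => by
      refine hzero a F _ hhom (Nat.succ_pos _) fun hmem => ?_
      exact (ProjectiveSpectrum.mem_basicOpen ℋ F _).1 hmem (genIdeal_le ι ((a : T).1.base default) hF)
    have h2 := hfun_le (genIdeal ι) (genIdeal_isHomogeneous ι) hQ hQ0 hQr hQd hd0 (n * (Nat.card k - 1) + 1)
    have h3 : Nat.card T ≤ d ^ (n + 1) * (r + (n * (Nat.card k - 1) + 1)).choose r := by exact_mod_cast h1.trans h2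
    refine (show SgaExt.pointCount (ι ≫ CohB1.ProjSpace.toSpec n k) k = Nat.card T from rfl).trans_le (h3.trans ?_)
    rw [mul_assoc, ← mul_pow]
    refine Nat.mul_le_mul_left _ ((Nat.choose_le_pow _ _).trans (Nat.pow_le_pow_left ?_ r))
    obtain ⟨q, hq⟩ : ∃ q, Nat.card k = q + 1 := ⟨Nat.card k - 1, by have := Finite.one_lt_card (α := k); omega⟩
    rw [hq, Nat.add_sub_cancel]
    nlinarith
  · rw [show SgaExt.pointCount (ι ≫ CohB1.ProjSpace.toSpec n k) k = Nat.card T from rfl, Nat.card_eq_zero_of_infinite]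
    exact Nat.zero_le _

end Groth.Agent.DegBound
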