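import Groth.Agent.DegBound.Base
import Groth.Agent.SegreDim.Noether

/-!
A uniform bound for the Hilbert function of a homogeneous prime, from the degree alone.
-/

set_option autoImplicit false
set_option linter.style.haveILetI false
set_option linter.unusedSectionVars false
set_option backward.isDefEq.respectTransparency false

universe u

open MvPolynomial
open scoped Nat
open Groth.Agent.CIHilb (hfun IsHP)

noncomputable section

namespace Groth.Agent.DegBound

variable {k : Type u} [Field k] {n : ℕ}

theorem isHomogeneous_aeval {σ : Type*} {j : ℕ} (h : σ → MvPolynomial (Fin (n + 1)) k)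
    (hh : ∀ i, (h i).IsHomogeneous 1) {g : MvPolynomial σ k} (hg : g.IsHomogeneous j) :
    (aeval h g).IsHomogeneous j := by
  have := hg.eval₂ (algebraMap k (MvPolynomial (Fin (n + 1)) k)) h (fun a => isHomogeneous_C _ a) hh
  rw [one_mul] at this
  exact this

theorem comp_aeval {σ : Type*} {m : ℕ} (h : σ → MvPolynomial (Fin (n + 1)) k) (hh : ∀ i, (h i).IsHomogeneous 1)
    (c : MvPolynomial σ k) :
    homogeneousComponent m (aeval h c) = aeval h (homogeneousComponent m c) := by
  have hhom : ∀ (j : ℕ) (g : MvPolynomial σ k), g.IsHomogeneous j → (aeval h g).IsHomogeneous j :=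
    fun j g hg => isHomogeneous_aeval h hh hg
  conv_lhs => rw [← sum_homogeneousComponent c, map_sum, map_sum]
  rw [Finset.sum_eq_single m]
  · exact homogeneousComponent_of_mem (hhom _ _ (homogeneousComponent_isHomogeneous m c)) |>.trans (if_pos rfl)
  · intro j _ hj
    exact homogeneousComponent_of_mem (hhom _ _ (homogeneousComponent_isHomogeneous j c)) |>.trans (if_neg hj.symm)
  · intro hm
    rw [homogeneousComponent_eq_zero m c (by simpa [Nat.lt_succ_iff] using hm), map_zero, map_zero]

/-- A polynomial bounded below by `e * (x - c) ^ r / r!` has top coefficient at least `e / r!`. -/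
theorem le_coeff_of_eventually {Q : Polynomial ℚ} {r e d : ℕ} (hr : Q.natDegree ≤ r) (hd : (r ! : ℚ) * Q.coeff r ≤ d)
    (N₀ : ℕ) (h : ∀ N, N₀ ≤ N → (e : ℚ) * ((N + 1 - e : ℕ) : ℚ) ^ r / (r ! : ℚ) ≤ Q.eval (N : ℚ)) : e ≤ d := by
  by_contra hlt
  push Not at hlt
  let G : Polynomial ℚ :=
    Polynomial.C (r ! : ℚ) * Q - Polynomial.C (e : ℚ) * (Polynomial.X + Polynomial.C (1 - (e : ℚ))) ^ r
  have hmon : ((Polynomial.X + Polynomial.C (1 - (e : ℚ))) ^ r : Polynomial ℚ).natDegree = r := by
    rw [Polynomial.natDegree_pow, Polynomial.natDegree_X_add_C, mul_one]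
  have hc : ((Polynomial.X + Polynomial.C (1 - (e : ℚ))) ^ r : Polynomial ℚ).coeff r = 1 := by
    have := ((Polynomial.monic_X_add_C (1 - (e : ℚ))).pow r).coeff_natDegree
    rwa [hmon] at this
  have hG : G.coeff r < 0 := by
    rw [Polynomial.coeff_sub, Polynomial.coeff_C_mul, Polynomial.coeff_C_mul, hc, mul_one]
    have : (d : ℚ) < e := by exact_mod_cast hlt
    linarith
  have hdeg : G.natDegree ≤ r :=
    (Polynomial.natDegree_sub_le _ _).trans (max_le ((Polynomial.natDegree_C_mul_le _ _).trans hr)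
      ((Polynomial.natDegree_C_mul_le _ _).trans hmon.le))
  have hlead : G.leadingCoeff = G.coeff r := by
    rw [Polynomial.leadingCoeff, le_antisymm hdeg (Polynomial.le_natDegree_of_ne_zero hG.ne)]
  have hev : ∀ᶠ N : ℕ in Filter.atTop, 0 ≤ G.eval (N : ℚ) := by
    refine Filter.eventually_atTop.2 ⟨max N₀ e, fun N hN => ?_⟩
    have h1 := h N (le_of_max_le_left hN)
    rw [div_le_iff₀ (by exact_mod_cast Nat.factorial_pos r), Nat.cast_sub (by omega), Nat.cast_add, Nat.cast_one] at h1
    simp only [G, Polynomial.eval_sub, Polynomial.eval_mul, Polynomial.eval_C, Polynomial.eval_pow,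
      Polynomial.eval_add, Polynomial.eval_X]
    rw [show (N : ℚ) + (1 - (e : ℚ)) = (N : ℚ) + 1 - e by ring]
    linarith
  rcases eq_or_ne r 0 with rfl | hr0
  · obtain ⟨N, hN⟩ := hev.exists
    rw [Polynomial.eq_C_of_natDegree_le_zero hdeg, Polynomial.eval_C] at hN
    linarith
  · have hdeg' : G.natDegree = r := le_antisymm hdeg (Polynomial.le_natDegree_of_ne_zero hG.ne)
    have ht := (Polynomial.tendsto_atBot_of_leadingCoeff_nonpos G
      (Polynomial.natDegree_pos_iff_degree_pos.1 (by omega)) (hlead ▸ hG.le)).comp (tendsto_natCast_atTop_atTop (R := ℚ))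
    obtain ⟨N, hN, hN'⟩ := (hev.and (ht.eventually (Filter.eventually_lt_atBot 0))).exists
    exact absurd hN (not_le.2 hN')

/-- A finite map from a polynomial ring onto a ring of the same dimension is injective. -/
theorem injective_of_finite {r : ℕ} {B : Type u} [CommRing B]
    (η : MvPolynomial (Fin (r + 1)) k →+* B) (hfin : η.Finite) (hdim : ringKrullDim B = ((r + 1 : ℕ) : WithBot ℕ∞)) :
    Function.Injective η := by
  rw [injective_iff_map_eq_zero]
  intro f hf
  by_contra hf0
  have hi : (RingHom.kerLift η).Finite :=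
    RingHom.Finite.of_comp_finite (f := Ideal.Quotient.mk (RingHom.ker η)) (g := RingHom.kerLift η)
      (by rwa [show (RingHom.kerLift η).comp (Ideal.Quotient.mk _) = η from RingHom.ext fun x => rfl])
  have e : ringKrullDim (MvPolynomial (Fin (r + 1)) k ⧸ RingHom.ker η) = ringKrullDim B := by
    letI := (RingHom.kerLift η).toAlgebra
    haveI : Module.Finite _ B := hi
    haveI := Algebra.IsIntegral.of_finite (MvPolynomial (Fin (r + 1)) k ⧸ RingHom.ker η) B
    exact SegreDim.ringKrullDim_eq_of_injective_integral (RingHom.kerLift_injective η)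
  have h1 := ringKrullDim_quotient_succ_le_of_nonZeroDivisor (mem_nonZeroDivisors_of_ne_zero hf0)
  have h2 : ringKrullDim (MvPolynomial (Fin (r + 1)) k ⧸ RingHom.ker η) ≤
      ringKrullDim (MvPolynomial (Fin (r + 1)) k ⧸ Ideal.span {f}) :=
    ringKrullDim_le_of_surjective (Ideal.Quotient.factor ((Ideal.span_singleton_le_iff_mem _).2 hf))
      (Ideal.Quotient.factor_surjective _)
  rw [e, hdim] at h2
  have h3 := (add_le_add h2 le_rfl).trans h1
  rw [MvPolynomial.ringKrullDim_of_isNoetherianRing, ringKrullDim_eq_zero_of_field, zero_add,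
    Nat.card_eq_fintype_card, Fintype.card_fin] at h3
  have : r + 1 + 1 ≤ r + 1 := by exact_mod_cast h3
  omega

theorem degree_eq_of_mem_support {σ : Type*} {R : Type*} [CommSemiring R] {F : MvPolynomial σ R} {m : ℕ}
    (hF : F.IsHomogeneous m) {b : σ →₀ ℕ} (hb : b ∈ F.support) : b.degree = m := by
  rw [← hF (mem_support_iff.1 hb), Finsupp.degree_eq_weight_one]
  rfl

theorem eq_zero_of_sum_pow {R B : Type*} [CommRing R] [IsDomain R] [IsIntegrallyClosed R] [CommRing B] [IsDomain B]
    [Algebra R B] [Module.IsTorsionFree R B] {x : B} (hx : IsIntegral R x) (g : Fin (minpoly R x).natDegree → R)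
    (hg : ∑ j : Fin (minpoly R x).natDegree, algebraMap R B (g j) * x ^ (j : ℕ) = 0) : g = 0 := by
  classical
  let q : Polynomial R := ∑ j : Fin (minpoly R x).natDegree, Polynomial.monomial (j : ℕ) (g j)
  have hq0 : Polynomial.aeval x q = 0 := by
    rw [← hg, map_sum]
    exact Finset.sum_congr rfl fun j _ => by rw [Polynomial.aeval_monomial]
  have hq : q = 0 := by
    by_contra hne
    have hlt : q.degree < ((minpoly R x).natDegree : WithBot ℕ) := by
      refine lt_of_le_of_lt (Polynomial.degree_sum_le _ _) ((Finset.sup_lt_iff (WithBot.bot_lt_coe _)).2 fun j _ => ?_)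
      exact lt_of_le_of_lt (Polynomial.degree_monomial_le _ _) (WithBot.coe_lt_coe.2 j.2)
    have hle := minpoly.IsIntegrallyClosed.degree_le_of_ne_zero hne hq0
    rw [Polynomial.degree_eq_natDegree (minpoly.ne_zero hx)] at hle
    exact lt_irrefl _ (lt_of_le_of_lt hle hlt)
  funext j
  have := congrArg (fun p => Polynomial.coeff p (j : ℕ)) hq
  simpa [q, Polynomial.coeff_monomial, Fin.val_inj] using this

/-- The minimal relation of an element finite over a normal domain. -/
theorem exists_minimal_relation {R B : Type*} [CommRing R] [IsDomain R] [IsIntegrallyClosed R] [CommRing B]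
    [IsDomain B] (η : R →+* B) (hfin : η.Finite) (hinj : Function.Injective η) (x : B) :
    ∃ e : ℕ, 0 < e ∧ (∀ g : Fin e → R, ∑ j, η (g j) * x ^ (j : ℕ) = 0 → g = 0) ∧
      ∃ a : Fin e → R, x ^ e + ∑ j, η (a j) * x ^ (j : ℕ) = 0 := by
  letI := η.toAlgebra
  haveI : Module.Finite R B := hfin
  haveI : Module.IsTorsionFree R B := Module.isTorsionFree_iff_algebraMap_injective.2 hinj
  have hint : IsIntegral R x := Algebra.IsIntegral.isIntegral x
  refine ⟨(minpoly R x).natDegree, minpoly.natDegree_pos hint, fun g hg => eq_zero_of_sum_pow hint g hg,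
    fun j => (minpoly R x).coeff j, ?_⟩
  have h0 := minpoly.aeval R x
  rw [Polynomial.aeval_eq_sum_range, Finset.sum_range_succ, (minpoly.monic hint).coeff_natDegree, one_smul,
    Finset.sum_range] at h0
  rw [← h0, add_comm]
  exact congrArg (· + _) (Finset.sum_congr rfl fun j _ => (Algebra.smul_def _ _).symm)

section Graded

variable {B : Type u} [CommRing B] [Algebra k B] (π : MvPolynomial (Fin (n + 1)) k →ₐ[k] B)
  (hcomp : ∀ F, π F = 0 → ∀ m, π (homogeneousComponent m F) = 0)
  {t : ℕ} (h : Fin t → MvPolynomial (Fin (n + 1)) k) (hh : ∀ i, (h i).IsHomogeneous 1)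

include hcomp hh

/-- Linear forms cutting a graded ring down to the vertex make it finite over them. -/
theorem finite_aeval (hsurj : Function.Surjective π) {c : ℕ}
    (hc : HomogIdeal.mIdeal k n ^ c ≤ RingHom.ker π.toRingHom ⊔ Ideal.span (Set.range h)) :
    (π.comp (aeval h)).toRingHom.Finite := by
  classical
  let η := π.comp (aeval h)
  letI : Algebra (MvPolynomial (Fin t) k) B := η.toRingHom.toAlgebra
  have hfin : {a : Fin (n + 1) →₀ ℕ | a.degree < c}.Finite := Finsupp.finite_of_degree_lt c
  let M := Submodule.span (MvPolynomial (Fin t) k)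
    ((fun a => π (monomial a (1 : k))) '' {a : Fin (n + 1) →₀ ℕ | a.degree < c})
  have hk : ∀ (b : k) (x : B), x ∈ M → π (C b) * x ∈ M := fun b x hx => by
    have h1 : (C b : MvPolynomial (Fin t) k) • x = π (C b) * x := by
      rw [Algebra.smul_def, RingHom.algebraMap_toAlgebra]
      simp [η]
    exact h1 ▸ M.smul_mem _ hx
  have key : ∀ (m : ℕ) (F : MvPolynomial (Fin (n + 1)) k), F.IsHomogeneous m → π F ∈ M := by
    intro m
    induction m using Nat.strong_induction_on with
    | _ m ih =>
      intro F hF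
      rw [F.as_sum, map_sum]
      refine sum_mem fun a ha => ?_
      have ham : a.degree = m := degree_eq_of_mem_support hF ha
      rw [show monomial a (coeff a F) = C (coeff a F) * monomial a 1 by rw [C_mul_monomial, mul_one], map_mul]
      refine hk _ _ ?_
      by_cases hac : a.degree < c
      · exact Submodule.subset_span ⟨a, hac, rfl⟩
      · have hmem : monomial a (1 : k) ∈ RingHom.ker π.toRingHom ⊔ Ideal.span (Set.range h) := hc
          ((monomial_mem_pow_idealOfVars_iff (σ := Fin (n + 1)) (R := k) c a one_ne_zero).2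
            (not_lt.1 hac) : monomial a (1 : k) ∈ HomogIdeal.mIdeal k n ^ c)
        obtain ⟨p, hp, q, hq, hpq⟩ := Submodule.mem_sup.1 hmem
        obtain ⟨g, hg⟩ := Ideal.mem_span_range_iff_exists_fun.1 hq
        have hhom : (monomial a (1 : k)).IsHomogeneous m := isHomogeneous_monomial _ ham
        have h2 : π (monomial a (1 : k)) = ∑ l, π (homogeneousComponent m (g l * h l)) := by
          conv_lhs => rw [← (homogeneousComponent_of_mem hhom).trans (if_pos rfl), ← hpq, ← hg, map_add, map_sum,
            map_add, map_sum]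
          rw [hcomp p hp m, zero_add]
        rw [h2]
        refine sum_mem fun l _ => ?_
        rcases m with - | m'
        · rw [homogeneousComponent_zero, show coeff 0 (g l * h l) = 0 by
            rw [← constantCoeff_eq, map_mul, constantCoeff_eq,
              (hh l).coeff_eq_zero (by simp), mul_zero], map_zero, map_zero]
          exact zero_mem _
        · rw [show homogeneousComponent (m' + 1) (g l * h l) = homogeneousComponent m' (g l) * h l by
            rw [mul_comm (g l), mul_comm _ (h l), add_comm m' 1, CIHilb.component_mul (hh l)], map_mul]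
          have h3 : (X l : MvPolynomial (Fin t) k) • π (homogeneousComponent m' (g l)) =
              π (homogeneousComponent m' (g l)) * π (h l) := by
            rw [Algebra.smul_def, RingHom.algebraMap_toAlgebra, mul_comm]
            simp [η]
          exact h3 ▸ M.smul_mem _ (ih m' (by omega) _ (homogeneousComponent_isHomogeneous _ _))
  have htop : M = ⊤ := by
    refine top_le_iff.1 fun x _ => ?_
    obtain ⟨F, rfl⟩ := hsurj x
    rw [← sum_homogeneousComponent F, map_sum]
    exact sum_mem fun i _ => key i _ (homogeneousComponent_isHomogeneous _ _)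
  exact ⟨htop ▸ Submodule.fg_span (hfin.image _)⟩

/-- Independent powers of a variable over the linear forms are at most as many as the degree. -/
theorem le_of_indep {r : ℕ} (ht : t = r + 1) {Q : Polynomial ℚ}
    (hQ : ∀ᶠ N : ℕ in Filter.atTop,
      (Module.finrank k ↥((homogeneousSubmodule (Fin (n + 1)) k N).map π.toLinearMap) : ℚ) = Q.eval (N : ℚ))
    {d : ℕ} (hr : Q.natDegree ≤ r) (hd : (r ! : ℚ) * Q.coeff r ≤ d) (l : Fin (n + 1)) (e : ℕ)
    (hind : ∀ g : Fin e → MvPolynomial (Fin t) k,
      ∑ j, (π.comp (aeval h)) (g j) * π (X l) ^ (j : ℕ) = 0 → g = 0) : e ≤ d := by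
  classical
  subst ht
  let η := π.comp (aeval h)
  have hXj : ∀ j : ℕ, (X l ^ j : MvPolynomial (Fin (n + 1)) k).IsHomogeneous j := fun j => by
    simpa using (isHomogeneous_X k l).pow j
  obtain ⟨N₀, hN₀⟩ := Filter.eventually_atTop.1 hQ
  refine le_coeff_of_eventually hr hd (max N₀ e) fun N hN => ?_
  have hNe : e ≤ N := le_of_max_le_right hN
  rw [← hN₀ N (le_of_max_le_left hN)]
  haveI := CIHilb.finite_homogeneous (k := k) (n := n) N
  let V := fun j : Fin e => homogeneousSubmodule (Fin (r + 1)) k (N - (j : ℕ))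
  haveI : ∀ j : Fin e, Module.Finite k (V j) := fun j => CIHilb.finite_homogeneous _
  let T : (Π j : Fin e, V j) →ₗ[k] B := ∑ j : Fin e, (LinearMap.mulRight k (π (X l) ^ (j : ℕ))) ∘ₗ η.toLinearMap ∘ₗ
    (V j).subtype ∘ₗ LinearMap.proj j
  have hT : ∀ g, T g = ∑ j, η (g j : MvPolynomial (Fin (r + 1)) k) * π (X l) ^ (j : ℕ) := fun g => by
    simp [T, LinearMap.sum_apply]
  have hTinj : Function.Injective T := by
    rw [injective_iff_map_eq_zero]
    intro g hg
    rw [hT] at hg
    have h0 := hind (fun j => (g j : MvPolynomial (Fin (r + 1)) k)) hg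
    funext j
    exact Subtype.ext (congrFun h0 j)
  have hTle : LinearMap.range T ≤ (homogeneousSubmodule (Fin (n + 1)) k N).map π.toLinearMap := by
    rintro _ ⟨g, rfl⟩
    rw [hT]
    refine sum_mem fun j _ => ⟨aeval h (g j : MvPolynomial (Fin (r + 1)) k) * X l ^ (j : ℕ), ?_, ?_⟩
    · have := (isHomogeneous_aeval h hh (g j).2).mul (hXj (j : ℕ))
      rwa [Nat.sub_add_cancel (by omega)] at this
    · simp [η]
  have h1 : Module.finrank k (Π j : Fin e, V j) ≤
      Module.finrank k ↥((homogeneousSubmodule (Fin (n + 1)) k N).map π.toLinearMap) :=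
    (LinearMap.finrank_range_of_inj hTinj).symm.le.trans (Submodule.finrank_mono hTle)
  rw [Module.finrank_pi_fintype] at h1
  refine le_trans ?_ (Nat.cast_le.2 h1)
  rw [mul_div_assoc, Nat.cast_sum]
  calc (e : ℚ) * (((N + 1 - e : ℕ) : ℚ) ^ r / (r ! : ℚ))
      = ∑ _j : Fin e, ((N + 1 - e : ℕ) : ℚ) ^ r / (r ! : ℚ) := by simp
    _ ≤ _ := Finset.sum_le_sum fun j _ => by
      rw [CIHilb.finrank_homogeneous]
      refine le_trans ?_ (Nat.pow_le_choose (α := ℚ) r (r + (N - j)))
      have hm : N + 1 - e ≤ r + (N - j) + 1 - r := by omega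
      gcongr

/-- Each variable satisfies a monic homogeneous relation of degree at most `d`. -/
theorem exists_rel [IsDomain B] (hfin : (π.comp (aeval h)).toRingHom.Finite)
    (hinj : Function.Injective (π.comp (aeval h))) {r : ℕ} (ht : t = r + 1) {Q : Polynomial ℚ}
    (hQ : ∀ᶠ N : ℕ in Filter.atTop,
      (Module.finrank k ↥((homogeneousSubmodule (Fin (n + 1)) k N).map π.toLinearMap) : ℚ) = Q.eval (N : ℚ))
    {d : ℕ} (hr : Q.natDegree ≤ r) (hd : (r ! : ℚ) * Q.coeff r ≤ d) (l : Fin (n + 1)) :
    ∃ e : ℕ, 0 < e ∧ e ≤ d ∧ ∃ c : Fin e → MvPolynomial (Fin t) k,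
      (∀ j : Fin e, c j ∈ homogeneousSubmodule (Fin t) k (e - (j : ℕ))) ∧
        π (X l) ^ e + ∑ j : Fin e, π (aeval h (c j)) * π (X l) ^ (j : ℕ) = 0 := by
  classical
  subst ht
  haveI := isIntegrallyClosed_mvPoly (Fin (r + 1)) k
  obtain ⟨e, he0, hind, a, ha⟩ := exists_minimal_relation (π.comp (aeval h)).toRingHom hfin hinj (π (X l))
  have hed : e ≤ d := le_of_indep π hcomp h hh rfl hQ hr hd l e hind
  refine ⟨e, he0, hed, fun j => homogeneousComponent (e - (j : ℕ)) (a j),
    fun j => homogeneousComponent_isHomogeneous _ _, ?_⟩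
  have hXj : ∀ j : ℕ, (X l ^ j : MvPolynomial (Fin (n + 1)) k).IsHomogeneous j := fun j => by
    simpa using (isHomogeneous_X k l).pow j
  let F : MvPolynomial (Fin (n + 1)) k := X l ^ e + ∑ j : Fin e, aeval h (a j) * X l ^ (j : ℕ)
  have hF : π F = 0 := by
    rw [← ha, map_add, map_sum, map_pow]
    exact congrArg _ (Finset.sum_congr rfl fun j _ => by rw [map_mul, map_pow]; rfl)
  have hFe := hcomp F hF e
  rw [map_add, map_add, map_sum, map_sum, (homogeneousComponent_of_mem (hXj e)).trans (if_pos rfl), map_pow] at hFe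
  refine Eq.trans ?_ hFe
  congr 1
  refine Finset.sum_congr rfl fun j _ => ?_
  have h4 := CIHilb.component_mul (hXj (j : ℕ)) (aeval h (a j)) (e - (j : ℕ))
  rw [Nat.add_sub_cancel' j.2.le] at h4
  rw [mul_comm (aeval h (a j)), h4, map_mul, map_pow, comp_aeval h hh, mul_comm]

/-- Monic homogeneous relations of degree at most `d` bound the graded pieces. -/
theorem finrank_le_of_rel {d : ℕ} (hd0 : 0 < d) {r : ℕ} (ht : t = r + 1)
    (hrel : ∀ l : Fin (n + 1), ∃ e : ℕ, 0 < e ∧ e ≤ d ∧ ∃ c : Fin e → MvPolynomial (Fin t) k,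
      (∀ j : Fin e, c j ∈ homogeneousSubmodule (Fin t) k (e - (j : ℕ))) ∧
        π (X l) ^ e + ∑ j : Fin e, π (aeval h (c j)) * π (X l) ^ (j : ℕ) = 0) (N : ℕ) :
    Module.finrank k ↥((homogeneousSubmodule (Fin (n + 1)) k N).map π.toLinearMap) ≤
      d ^ (n + 1) * (r + N).choose r := by
  classical
  choose e he0 hed c hc hrel using hrel
  let R := homogeneousSubmodule (Fin t) k
  let η := (π.comp (aeval h)).toLinearMap
  let A := fun m : ℕ => Finset.univ.filter fun a : Fin (n + 1) → Fin d => ∑ i, (a i : ℕ) ≤ m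
  let mon : (Fin (n + 1) → Fin d) → B := fun a => ∏ i, π (X i) ^ (a i : ℕ)
  let piece : ℕ → (Fin (n + 1) → Fin d) → Submodule k B := fun m a =>
    ((R (m - ∑ i, (a i : ℕ))).map η).map (LinearMap.mulRight k (mon a))
  let W : ℕ → Submodule k B := fun m => (A m).sup (piece m)
  have hW : ∀ m (a : Fin (n + 1) → Fin d) (g : MvPolynomial (Fin t) k), ∑ i, (a i : ℕ) ≤ m →
      g ∈ R (m - ∑ i, (a i : ℕ)) → π (aeval h g) * mon a ∈ W m := fun m a g ha hg =>
    (Finset.le_sup (f := piece m) (by simp [A, ha] : a ∈ A m)) ⟨η g, ⟨g, hg, rfl⟩, rfl⟩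
  have hupd : ∀ (a : Fin (n + 1) → Fin d) (l : Fin (n + 1)) (v : Fin d),
      mon (Function.update a l v) = (∏ i ∈ Finset.univ.erase l, π (X i) ^ (a i : ℕ)) * π (X l) ^ (v : ℕ) ∧
        ∑ i, (Function.update a l v i : ℕ) = (∑ i ∈ Finset.univ.erase l, (a i : ℕ)) + v := fun a l v => by
    constructor
    · rw [show mon (Function.update a l v) = ∏ i, π (X i) ^ ((Function.update a l v i : Fin d) : ℕ) from rfl,
        ← Finset.prod_erase_mul _ _ (Finset.mem_univ l), Function.update_self]
      congr 1
      exact Finset.prod_congr rfl fun i hi => by rw [Function.update_of_ne (Finset.ne_of_mem_erase hi)]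
    · rw [← Finset.sum_erase_add _ _ (Finset.mem_univ l), Function.update_self]
      congr 1
      exact Finset.sum_congr rfl fun i hi => by rw [Function.update_of_ne (Finset.ne_of_mem_erase hi)]
  have hmul : ∀ (m : ℕ) (l : Fin (n + 1)), W m ≤ (W (m + 1)).comap (LinearMap.mulRight k (π (X l))) := by
    intro m l
    refine Finset.sup_le fun a ha => ?_
    rintro _ ⟨_, ⟨g, hg, rfl⟩, rfl⟩
    have ham : ∑ i, (a i : ℕ) ≤ m := (Finset.mem_filter.1 ha).2
    have hs0 := hupd a l (a l)
    rw [Function.update_eq_self] at hs0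
    have hsum := hs0.2
    change π (aeval h g) * mon a * π (X l) ∈ W (m + 1)
    by_cases hlt : (a l : ℕ) + 1 < d
    · obtain ⟨e1, e2⟩ := hupd a l ⟨(a l : ℕ) + 1, hlt⟩
      simp only at e1 e2
      have := hW (m + 1) (Function.update a l ⟨(a l : ℕ) + 1, hlt⟩) g (by omega) (by
        rw [e2, show m + 1 - ((∑ i ∈ Finset.univ.erase l, (a i : ℕ)) + ((a l : ℕ) + 1)) =
          m - ∑ i, (a i : ℕ) by omega]
        exact hg)
      rw [e1] at this
      convert this using 1
      rw [hs0.1]
      ring
    · have hal : (a l : ℕ) + 1 = (d - e l) + e l := by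
        have := (a l).2; have := hed l; omega
      rw [hs0.1, mul_assoc, mul_assoc, ← pow_succ, hal, pow_add, eq_neg_of_add_eq_zero_left (hrel l),
        mul_neg, mul_neg, mul_neg, Finset.mul_sum, Finset.mul_sum, Finset.mul_sum]
      refine neg_mem (sum_mem fun j _ => ?_)
      have hj := j.2
      have hjd : d - e l + (j : ℕ) < d := by have := hed l; omega
      obtain ⟨e1, e2⟩ := hupd a l ⟨d - e l + (j : ℕ), hjd⟩
      simp only at e1 e2
      have := hW (m + 1) (Function.update a l ⟨d - e l + (j : ℕ), hjd⟩) (g * c l j) (by omega) (by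
        rw [e2, show m + 1 - ((∑ i ∈ Finset.univ.erase l, (a i : ℕ)) + (d - e l + (j : ℕ))) =
          (m - ∑ i, (a i : ℕ)) + (e l - (j : ℕ)) by omega]
        exact (show g.IsHomogeneous _ from hg).mul (hc l j))
      rw [e1, map_mul, map_mul] at this
      convert this using 1
      ring
  have hmon : ∀ b : Fin (n + 1) →₀ ℕ, π (monomial b (1 : k)) ∈ W b.degree := by
    intro b
    induction hb : b.degree generalizing b with
    | zero =>
      rw [Finsupp.degree_eq_zero_iff] at hb
      subst hb
      have := hW 0 (fun _ => ⟨0, hd0⟩) 1 (by simp)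
        (by simp only [Nat.zero_sub]; exact isHomogeneous_one (Fin t) k)
      simpa [mon] using this
    | succ m ih =>
      obtain ⟨l, hl⟩ : ∃ l, b l ≠ 0 := by
        by_contra! h0
        simp [show b = 0 from Finsupp.ext h0] at hb
      have hsum : b - Finsupp.single l 1 + Finsupp.single l 1 = b :=
        tsub_add_cancel_of_le (Finsupp.single_le_iff.2 (Nat.one_le_iff_ne_zero.2 hl))
      have hdeg : (b - Finsupp.single l 1).degree = m := by
        have h1 := congrArg Finsupp.degree hsum
        rw [map_add, Finsupp.degree_single, hb] at h1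
        omega
      have := hmul m l (ih _ hdeg)
      rw [Submodule.mem_comap, LinearMap.mulRight_apply, ← map_mul, X, monomial_mul, mul_one, hsum] at this
      exact this
  have hsub : (homogeneousSubmodule (Fin (n + 1)) k N).map π.toLinearMap ≤ W N := by
    rintro _ ⟨F, hF, rfl⟩
    rw [F.as_sum, map_sum]
    refine sum_mem fun b hb => ?_
    rw [show monomial b (coeff b F) = coeff b F • monomial b (1 : k) by rw [smul_monomial, smul_eq_mul, mul_one], map_smul]
    exact Submodule.smul_mem _ _ (degree_eq_of_mem_support hF hb ▸ hmon b)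
  subst ht
  haveI : ∀ m, Module.Finite k (R m) := fun m => CIHilb.finite_homogeneous m
  have hpiece : ∀ a, Module.finrank k (piece N a) ≤ (r + N).choose r := fun a =>
    ((Submodule.finrank_map_le _ _).trans (Submodule.finrank_map_le _ _)).trans
      ((CIHilb.finrank_homogeneous (k := k) _).le.trans (Nat.choose_le_choose r (by omega)))
  have hsup : ∀ s : Finset (Fin (n + 1) → Fin d), Module.Finite k (s.sup (piece N) : Submodule k B) ∧
      Module.finrank k (s.sup (piece N) : Submodule k B) ≤ s.card * (r + N).choose r := by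
    intro s
    induction s using Finset.induction_on with
    | empty =>
      rw [Finset.sup_empty]
      exact ⟨inferInstance, by simp⟩
    | insert a s ha ih =>
      haveI := ih.1
      haveI : Module.Finite k (piece N a) := inferInstance
      rw [Finset.sup_insert, Finset.card_insert_of_notMem ha, Nat.add_mul, Nat.one_mul]
      exact ⟨inferInstance, (Submodule.finrank_add_le_finrank_add_finrank _ _).trans ((add_le_add (hpiece a) ih.2).trans (add_comm _ _).le)⟩
  haveI := (hsup (A N)).1
  refine ((Submodule.finrank_mono hsub).trans (hsup (A N)).2).trans (Nat.mul_le_mul_right _ ?_)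
  exact (Finset.card_le_univ _).trans (by simp)

end Graded

theorem aux_bound [Infinite k] (P : Ideal (MvPolynomial (Fin (n + 1)) k)) [P.IsPrime]
    (hP : P.IsHomogeneous (CohB1.polyGrading n k)) {Q : Polynomial ℚ} (hQ : IsHP P Q) (hQ0 : Q ≠ 0)
    {r d : ℕ} (hr : Q.natDegree = r) (hd : (r ! : ℚ) * Q.coeff r ≤ d) (hd0 : 0 < d) (N : ℕ) :
    hfun P N ≤ ((d ^ (n + 1) * (r + N).choose r : ℕ) : ℤ) := by
  have hdim := CIHilb.dim_eq_natDegree_add_one hP hQ hQ0
  rw [hr] at hdim
  obtain ⟨h, hh, hrad⟩ := HomogIdeal.exists_linear_forms (k := k) (n := n) (r + 1) P hP fun l hl => by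
    have := FlatCI.length_le_dim l hl
    rw [hdim] at this
    exact_mod_cast this
  obtain ⟨c, hc⟩ := Ideal.exists_pow_le_of_le_radical_of_fg hrad ((isNoetherianRing_iff_ideal_fg _).mp inferInstance _)
  let π := Ideal.Quotient.mkₐ k P
  have hcomp : ∀ F, π F = 0 → ∀ m, π (homogeneousComponent m F) = 0 := fun F hF m =>
    Ideal.Quotient.eq_zero_iff_mem.2 (HomogIdeal.component_mem hP (Ideal.Quotient.eq_zero_iff_mem.1 hF) m)
  have hker : RingHom.ker π.toRingHom = P := Ideal.mk_ker
  have hfin := finite_aeval π hcomp h hh Ideal.Quotient.mk_surjective (hker.symm ▸ hc)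
  have hinj := injective_of_finite (π.comp (aeval h)).toRingHom hfin hdim
  have hval : ∀ m, hfun P m = Module.finrank k ↥((homogeneousSubmodule (Fin (n + 1)) k m).map π.toLinearMap) :=
    fun m => hfun_eq_finrank_map P m π.toLinearMap fun x _ => Ideal.Quotient.eq_zero_iff_mem
  have hQ' : ∀ᶠ m : ℕ in Filter.atTop,
      (Module.finrank k ↥((homogeneousSubmodule (Fin (n + 1)) k m).map π.toLinearMap) : ℚ) = Q.eval (m : ℚ) :=
    hQ.mono fun m hm => by rw [← hm, hval m]; norm_cast
  rw [hval N, Nat.cast_le]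
  exact finrank_le_of_rel π hcomp h hh hd0 rfl
    (fun l => exists_rel π hcomp h hh hfin hinj rfl hQ' hr.le hd l) N

/-- The Hilbert function of a homogeneous prime of dimension `r + 1` and degree `≤ d`. -/
theorem hfun_le (P : Ideal (MvPolynomial (Fin (n + 1)) k)) [P.IsPrime]
    (hP : P.IsHomogeneous (CohB1.polyGrading n k)) {Q : Polynomial ℚ} (hQ : IsHP P Q) (hQ0 : Q ≠ 0)
    {r d : ℕ} (hr : Q.natDegree = r) (hd : (r ! : ℚ) * Q.coeff r ≤ d) (hd0 : 0 < d) (N : ℕ) :
    hfun P N ≤ ((d ^ (n + 1) * (r + N).choose r : ℕ) : ℤ) := by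
  obtain ⟨K, _, _, P', hP', hP'h, he⟩ := exists_infinite_base P hP
  rw [← he N]
  exact aux_bound P' hP'h (hQ.mono fun m hm => by rw [he]; exact hm) hQ0 hr hd hd0 N

end Groth.Agent.DegBound
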