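import Groth.Agent.DegBound.Contract
import Groth.Agent.GeomRedSpread.Spread
import Groth.Agent.GeomRedPull.Field
import Groth.Agent.S2514

/-!
Uniform degree bounds for generators of radicals of ideals of bounded degree over all fields.
-/

set_option autoImplicit false
set_option linter.style.haveILetI false
set_option maxSynthPendingDepth 3

universe u

namespace Groth.Agent.DegBound

open MvPolynomial TensorProduct

variable {N : ℕ}

theorem isReduced_tensor_iff {A : Type u} [CommRing A] (S : Type u) [CommRing S] [Algebra A S] {r : ℕ}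
    (g : Fin r → MvPolynomial (Fin N) A) :
    IsReduced (S ⊗[A] (MvPolynomial (Fin N) A ⧸ Ideal.span (Set.range g))) ↔
      (Ideal.span (Set.range fun j => map (algebraMap A S) (g j))).IsRadical := by
  let e₁ := Algebra.TensorProduct.tensorQuotientEquiv (R := A) S (MvPolynomial (Fin N) A) S (Ideal.span (Set.range g))
  let e₂ := MvPolynomial.algebraTensorAlgEquiv (σ := Fin N) A S
  have h : Ideal.span (Set.range fun j => map (algebraMap A S) (g j)) =
      ((Ideal.span (Set.range g)).map (Algebra.TensorProduct.includeRight : MvPolynomial (Fin N) A →ₐ[A] S ⊗[A] _)).map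
        (e₂.toRingEquiv : S ⊗[A] MvPolynomial (Fin N) A →+* MvPolynomial (Fin N) S) := by
    rw [Ideal.map_span, Ideal.map_span, ← Set.range_comp, ← Set.range_comp]
    congr 1
    refine congrArg Set.range (funext fun j => ?_)
    show _ = e₂ ((1 : S) ⊗ₜ[A] g j)
    rw [MvPolynomial.algebraTensorAlgEquiv_tmul, one_smul]
  let e : S ⊗[A] (MvPolynomial (Fin N) A ⧸ Ideal.span (Set.range g)) ≃+*
      MvPolynomial (Fin N) S ⧸ Ideal.span (Set.range fun j => map (algebraMap A S) (g j)) :=
    e₁.toRingEquiv.trans (Ideal.quotientEquiv _ _ e₂.toRingEquiv h)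
  rw [Ideal.isRadical_iff_quotient_reduced]
  exact ⟨fun _ => isReduced_of_injective e.symm e.symm.injective, fun _ => isReduced_of_injective e e.injective⟩

theorem exists_clear {A K : Type u} [CommRing A] [CommRing K] [Algebra A K] (M : Submonoid A) [IsLocalization M K]
    {ι : Type} [Finite ι] (q : ι → MvPolynomial (Fin N) K) :
    ∃ s ∈ M, ∀ i, ∃ p : MvPolynomial (Fin N) A, map (algebraMap A K) p = C (algebraMap A K s) * q i := by
  classical
  haveI := Fintype.ofFinite ι
  obtain ⟨⟨s, hs⟩, hb⟩ := IsLocalization.exist_integer_multiples_of_finset M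
    (Finset.univ.biUnion fun i => (q i).support.image fun t => (q i).coeff t)
  refine ⟨s, hs, fun i => ?_⟩
  have h : ∀ t, ∃ a : A, algebraMap A K a = algebraMap A K s * (q i).coeff t := by
    intro t
    by_cases ht : t ∈ (q i).support
    · obtain ⟨a, ha⟩ := hb _ (Finset.mem_biUnion.2 ⟨i, Finset.mem_univ i, Finset.mem_image_of_mem _ ht⟩)
      exact ⟨a, ha.trans (Algebra.smul_def _ _)⟩
    · exact ⟨0, by rw [map_zero, notMem_support_iff.1 ht, mul_zero]⟩
  choose a ha using h
  refine ⟨∑ t ∈ (q i).support, monomial t (a t), ?_⟩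
  conv_rhs => rw [(q i).as_sum, Finset.mul_sum]
  rw [map_sum]
  exact Finset.sum_congr rfl fun t _ => by rw [map_monomial, ha, C_mul_monomial]

theorem exists_isFractionRing_model {A : Type u} [CommRing A] [IsDomain A] (K : Type u) [Field K] [Algebra A K]
    [IsFractionRing A K] (L : Type u) [Field L] [Algebra K L] [Algebra A L] [IsScalarTower A K L]
    [FiniteDimensional K L] :
    ∃ B : Subalgebra A L, Module.Finite A B ∧ IsFractionRing B L := by
  classical
  let b := Module.finBasis K L
  obtain ⟨y, hy, hint⟩ := exists_integral_multiples A K (Finset.univ.image b)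
  let B : Subalgebra A L := Algebra.adjoin A ((Finset.univ.image fun i => y • b i : Finset L) : Set L)
  have hfin : Module.Finite A B := Module.Finite.iff_fg.2
    (fg_adjoin_of_finite (Finset.finite_toSet _) fun x hx => by
      obtain ⟨i, -, rfl⟩ := Finset.mem_image.1 (Finset.mem_coe.1 hx)
      exact hint _ (Finset.mem_image_of_mem b (Finset.mem_univ i)))
  have hinj : Function.Injective (algebraMap A L) := by
    rw [IsScalarTower.algebraMap_eq A K L]
    exact (algebraMap K L).injective.comp (IsFractionRing.injective A K)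
  refine ⟨B, hfin, ?_⟩
  refine IsFractionRing.of_field B L fun z => ?_
  obtain ⟨⟨c, hc⟩, hcz⟩ := IsLocalization.exist_integer_multiples_of_finset (nonZeroDivisors A)
    (Finset.univ.image fun i => b.repr z i)
  choose a ha using fun i => hcz (b.repr z i) (Finset.mem_image_of_mem _ (Finset.mem_univ i))
  have hne : c * y ≠ 0 := mul_ne_zero (nonZeroDivisors.ne_zero hc) hy
  refine ⟨∑ i, algebraMap A B (a i) * ⟨y • b i, Algebra.subset_adjoin (Finset.mem_coe.2
    (Finset.mem_image_of_mem _ (Finset.mem_univ i)))⟩, algebraMap A B (c * y), ?_⟩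
  have hcy : algebraMap A L (c * y) ≠ 0 := (map_ne_zero_iff _ hinj).2 hne
  rw [map_sum]
  show z = (∑ i, algebraMap A L (a i) * (y • b i)) / algebraMap A L (c * y)
  rw [eq_div_iff hcy]
  symm
  conv_rhs => rw [← b.sum_repr z, Finset.sum_mul]
  refine Finset.sum_congr rfl fun i _ => ?_
  rw [IsScalarTower.algebraMap_apply A K L (a i), ha i, Algebra.smul_def, Algebra.smul_def, Algebra.smul_def,
    map_mul, map_mul, ← IsScalarTower.algebraMap_apply]
  ring

theorem isGeometricallyReduced_fraction {A L : Type u} [CommRing A] [IsDomain A] [Field L] [Algebra A L]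
    [IsFractionRing A L] {r : ℕ} (g : Fin r → MvPolynomial (Fin N) A)
    (hgr : Algebra.IsGeometricallyReduced L
      (MvPolynomial (Fin N) L ⧸ Ideal.span (Set.range fun j => map (algebraMap A L) (g j)))) :
    Algebra.IsGeometricallyReduced (FractionRing A)
      (FractionRing A ⊗[A] (MvPolynomial (Fin N) A ⧸ Ideal.span (Set.range g))) := by
  let K := FractionRing A
  let Ω := AlgebraicClosure K
  let ι : L →+* K := (FractionRing.algEquiv A L).symm.toRingEquiv.toRingHom
  letI : Algebra L Ω := ((algebraMap K Ω).comp ι).toAlgebra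
  haveI : IsScalarTower A L Ω := .of_algebraMap_eq fun x => by
    show algebraMap A Ω x = algebraMap K Ω (ι (algebraMap A L x))
    rw [show ι (algebraMap A L x) = algebraMap A K x from (FractionRing.algEquiv A L).symm.commutes x,
      ← IsScalarTower.algebraMap_apply]
  have h1 : IsReduced (Ω ⊗[L] (MvPolynomial (Fin N) L ⧸ Ideal.span (Set.range fun j => map (algebraMap A L) (g j)))) :=
    GeomRedPull.isReduced_field_tensor Ω
  have h2 := (isReduced_tensor_iff Ω fun j => map (algebraMap A L) (g j)).1 h1
  simp only [MvPolynomial.map_map, ← IsScalarTower.algebraMap_eq] at h2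
  haveI := (isReduced_tensor_iff Ω g).2 h2
  rw [Algebra.isGeometricallyReduced_field_iff]
  exact isReduced_of_injective _ (Algebra.TensorProduct.cancelBaseChange A K Ω Ω _).injective

set_option synthInstance.maxHeartbeats 200000 in
set_option maxHeartbeats 1600000 in
theorem rad_core {A : Type u} [CommRing A] [IsDomain A] [IsNoetherianRing A] {r : ℕ}
    (F : Fin r → MvPolynomial (Fin N) A) :
    ∃ a : A, a ≠ 0 ∧ ∃ R : ℕ, ∀ (k : Type u) [Field k] [Algebra A k], algebraMap A k a ≠ 0 →
      GenLE (Ideal.span (Set.range fun i => map (algebraMap A k) (F i))).radical R := by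
  classical
  let K := FractionRing A
  let IK := Ideal.span (Set.range fun i => map (algebraMap A K) (F i))
  obtain ⟨L, _, _, _, _, hgr⟩ := S2514.result (k := K) (MvPolynomial (Fin N) K ⧸ IK)
  letI : Algebra A L := ((algebraMap K L).comp (algebraMap A K)).toAlgebra
  haveI : IsScalarTower A K L := .of_algebraMap_eq fun x => rfl
  let m : L ⊗[K] MvPolynomial (Fin N) K →ₐ[L] L ⊗[K] (MvPolynomial (Fin N) K ⧸ IK) :=
    Algebra.TensorProduct.map (AlgHom.id L L) (Ideal.Quotient.mkₐ K IK)
  have hm : Function.Surjective m := fun x => by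
    obtain ⟨y, hy⟩ := LinearMap.lTensor_surjective L (g := (Ideal.Quotient.mkₐ K IK).toLinearMap)
      (Ideal.Quotient.mkₐ_surjective K IK) x
    exact ⟨y, hy⟩
  let e₂ := MvPolynomial.algebraTensorAlgEquiv (σ := Fin N) K L
  let θ : MvPolynomial (Fin N) L →ₐ[L] (L ⊗[K] (MvPolynomial (Fin N) K ⧸ IK)) ⧸ nilradical (L ⊗[K] (MvPolynomial (Fin N) K ⧸ IK)) :=
    (Ideal.Quotient.mkₐ L _).comp (m.comp e₂.symm.toAlgHom)
  have hθ : Function.Surjective θ := Ideal.Quotient.mk_surjective.comp (hm.comp e₂.symm.surjective)
  let IL := Ideal.span (Set.range fun i => map (algebraMap A L) (F i))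
  have hker : RingHom.ker θ = IL.radical := by
    have h1 : RingHom.ker θ = (Ideal.comap m (nilradical _)).comap e₂.symm := by
      ext x
      simp [θ, RingHom.mem_ker, Ideal.Quotient.eq_zero_iff_mem]
    have h2 : RingHom.ker m = IK.map (Algebra.TensorProduct.includeRight : MvPolynomial (Fin N) K →ₐ[K] L ⊗[K] _) := by
      have := Algebra.TensorProduct.lTensor_ker (A := L) (Ideal.Quotient.mkₐ K IK) (Ideal.Quotient.mkₐ_surjective K IK)
      rw [show RingHom.ker (Ideal.Quotient.mkₐ K IK) = IK from Ideal.Quotient.mkₐ_ker K IK] at this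
      exact this
    have h3 : (IK.map (Algebra.TensorProduct.includeRight : MvPolynomial (Fin N) K →ₐ[K] L ⊗[K] _)).comap e₂.symm = IL := by
      refine ((Ideal.map_comap_of_equiv e₂.toRingEquiv).symm.trans ?_)
      show Ideal.map (e₂.toRingEquiv : L ⊗[K] MvPolynomial (Fin N) K →+* MvPolynomial (Fin N) L) _ = IL
      rw [Ideal.map_span, Ideal.map_span, ← Set.range_comp, ← Set.range_comp]
      refine congrArg Ideal.span (congrArg Set.range (funext fun j => ?_))
      show e₂ ((1 : L) ⊗ₜ[K] map (algebraMap A K) (F j)) = _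
      rw [MvPolynomial.algebraTensorAlgEquiv_tmul, one_smul, MvPolynomial.map_map, ← IsScalarTower.algebraMap_eq]
    rw [h1, nilradical, Ideal.comap_radical, Ideal.comap_radical, Ideal.zero_eq_bot, ← RingHom.ker_eq_comap_bot, h2, h3]
  obtain ⟨B, hBfin, hBfrac⟩ := exists_isFractionRing_model (A := A) K L
  haveI := hBfin
  haveI := hBfrac
  haveI : IsNoetherianRing B := isNoetherian_of_tower A (isNoetherian_of_isNoetherianRing_of_finite A B)
  haveI : Algebra.IsIntegral A B := Algebra.IsIntegral.of_finite A B
  have hinjB : Function.Injective (algebraMap B L) := IsFractionRing.injective B L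
  have hinj : Function.Injective (map (σ := Fin N) (algebraMap B L)) := map_injective _ hinjB
  -- generators of the radical over `B`
  obtain ⟨r', G, hG⟩ := Submodule.fg_iff_exists_fin_generating_family.1 (IsNoetherian.noetherian IL.radical)
  obtain ⟨s, hs, hsg⟩ := exists_clear (A := B) (nonZeroDivisors B) G
  choose g hg using hsg
  have hgG : ∀ j, map (algebraMap B L) (g j) ∈ IL.radical := fun j => by
    rw [hg]; exact Ideal.mul_mem_left _ _ (hG.le (Ideal.subset_span ⟨j, rfl⟩))
  have hspan : Ideal.span (Set.range fun j => map (algebraMap B L) (g j)) = IL.radical := by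
    refine le_antisymm (Ideal.span_le.2 (Set.range_subset_iff.2 hgG)) (hG.ge.trans (Ideal.span_le.2 ?_))
    rintro _ ⟨j, rfl⟩
    have h0 : algebraMap B L s ≠ 0 := (map_ne_zero_iff _ hinjB).2 (nonZeroDivisors.ne_zero hs)
    have h1 : G j = C (algebraMap B L s)⁻¹ * map (algebraMap B L) (g j) := by
      rw [hg, ← mul_assoc, ← C_mul, inv_mul_cancel₀ h0, C_1, one_mul]
    rw [h1]
    exact Ideal.mul_mem_left _ _ (Ideal.subset_span ⟨j, rfl⟩)
  haveI : Algebra.IsGeometricallyReduced L
      (MvPolynomial (Fin N) L ⧸ Ideal.span (Set.range fun j => map (algebraMap B L) (g j))) := by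
    haveI := hgr
    let e := (Ideal.quotientEquivAlgOfEq L (hspan.trans hker.symm)).trans
      (Ideal.quotientKerAlgEquivOfSurjective hθ)
    exact Algebra.IsGeometricallyReduced.of_injective e.toAlgHom e.injective
  haveI := isGeometricallyReduced_fraction (L := L) g ‹_›
  obtain ⟨a₁, ha₁, hred⟩ :=
    GeomRedSpread.exists_forall_isReduced (A := B) (MvPolynomial (Fin N) B ⧸ Ideal.span (Set.range g))
  -- the two inclusions
  let FB : Fin r → MvPolynomial (Fin N) B := fun i => map (algebraMap A B) (F i)
  have hFB : ∀ i, map (algebraMap B L) (FB i) = map (algebraMap A L) (F i) := fun i => by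
    rw [MvPolynomial.map_map, ← IsScalarTower.algebraMap_eq]
  have hFg : ∀ i, ∃ d : Fin r' → MvPolynomial (Fin N) L,
      ∑ j, d j * map (algebraMap B L) (g j) = map (algebraMap B L) (FB i) := fun i => by
    refine Ideal.mem_span_range_iff_exists_fun.1 (hspan.ge ?_)
    rw [hFB]
    exact Ideal.le_radical (Ideal.subset_span ⟨i, rfl⟩)
  choose d hd using hFg
  obtain ⟨n, hn⟩ := Ideal.exists_pow_le_of_le_radical_of_fg (le_refl IL.radical) (IsNoetherian.noetherian _)
  have hgF : ∀ j, ∃ c : Fin r → MvPolynomial (Fin N) L,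
      ∑ i, c i * map (algebraMap B L) (FB i) = map (algebraMap B L) (g j) ^ n := fun j => by
    simp only [hFB]
    exact Ideal.mem_span_range_iff_exists_fun.1 (hn (Ideal.pow_mem_pow (hgG j) n))
  choose c hc using hgF
  obtain ⟨s₁, hs₁, hd'⟩ := exists_clear (A := B) (nonZeroDivisors B) (fun x : Fin r × Fin r' => d x.1 x.2)
  choose d' hd' using hd'
  obtain ⟨s₂, hs₂, hc'⟩ := exists_clear (A := B) (nonZeroDivisors B) (fun x : Fin r' × Fin r => c x.1 x.2)
  choose c' hc' using hc'
  have hFg' : ∀ i, C s₁ * FB i = ∑ j, d' (i, j) * g j := fun i => hinj (by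
    rw [map_mul, map_C, ← hd i, map_sum, Finset.mul_sum]
    exact Finset.sum_congr rfl fun j _ => by rw [map_mul, hd', mul_assoc])
  have hgF' : ∀ j, C s₂ * g j ^ n = ∑ i, c' (j, i) * FB i := fun j => hinj (by
    rw [map_mul, map_C, map_pow, ← hc j, map_sum, Finset.mul_sum]
    exact Finset.sum_congr rfl fun i _ => by rw [map_mul, hc', mul_assoc])
  let b₀ := a₁ * (s₁ * s₂)
  have hb₀ : b₀ ≠ 0 := mul_ne_zero ha₁ (mul_ne_zero (nonZeroDivisors.ne_zero hs₁) (nonZeroDivisors.ne_zero hs₂))
  obtain ⟨a, ha, ha0⟩ := Submodule.exists_mem_ne_zero_of_ne_bot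
    (Ideal.comap_ne_bot_of_integral_mem (R := A) hb₀ (Ideal.mem_span_singleton_self b₀) (Algebra.IsIntegral.isIntegral b₀))
  obtain ⟨U, hU⟩ := hBfin.fg_top
  obtain ⟨R, hR⟩ := exists_contract_bound.{u} N (Finset.univ.sup fun j => (g j).totalDegree) r' U.card
  refine ⟨a, ha0, R, fun k _ _ hk => ?_⟩
  let p := RingHom.ker (algebraMap A k)
  haveI : p.IsPrime := RingHom.ker_isPrime _
  let ι : p.ResidueField →ₐ[A] k := Ideal.ResidueField.liftₐ p (Algebra.ofId A k) le_rfl
    (fun x hx => isUnit_iff_ne_zero.2 hx)
  letI : Algebra p.ResidueField k := ι.toRingHom.toAlgebra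
  haveI : IsScalarTower A p.ResidueField k := .of_algebraMap_eq fun x => (ι.commutes x).symm
  have hinjAB : Function.Injective (algebraMap A B) := by
    intro x y h
    have h' := congrArg (algebraMap B L) h
    simp only [← IsScalarTower.algebraMap_apply] at h'
    exact IsFractionRing.injective A K ((algebraMap K L).injective h')
  haveI : Nontrivial (p.ResidueField ⊗[A] B) := by
    rw [PrimeSpectrum.nontrivial_iff_mem_rangeComap (p := ⟨p, inferInstance⟩)]
    obtain ⟨Q, hQ, hQp⟩ := Ideal.exists_ideal_over_prime_of_isIntegral_of_isDomain (S := B) p (by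
      intro x hx
      rw [RingHom.mem_ker, map_eq_zero_iff _ hinjAB] at hx
      simp [hx])
    exact ⟨⟨Q, hQ⟩, PrimeSpectrum.ext hQp⟩
  haveI hkB : Nontrivial (k ⊗[A] B) := by
    haveI : Nontrivial (k ⊗[p.ResidueField] (p.ResidueField ⊗[A] B)) :=
      (Algebra.TensorProduct.includeRight_injective (A := k) (B := p.ResidueField ⊗[A] B)
        (algebraMap p.ResidueField k).injective).nontrivial
    exact (Algebra.TensorProduct.cancelBaseChange A p.ResidueField k k B).injective.nontrivial
  obtain ⟨M, hM⟩ := Ideal.exists_maximal (k ⊗[A] B)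
  let k' := (k ⊗[A] B) ⧸ M
  letI : Field k' := Ideal.Quotient.field M
  letI : Algebra B k' := ((Ideal.Quotient.mk M).comp (Algebra.TensorProduct.includeRight (R := A) (A := k)).toRingHom).toAlgebra
  haveI : IsScalarTower A B k' := .of_algebraMap_eq fun x => by
    show algebraMap A k' x = Ideal.Quotient.mk M ((1 : k) ⊗ₜ[A] algebraMap A B x)
    rw [← Algebra.TensorProduct.algebraMap_apply']
    rfl
  haveI : Module.Finite k k' := Module.Finite.of_surjective (Ideal.Quotient.mkₐ k M).toLinearMap Ideal.Quotient.mk_surjective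
  have hdim : Module.finrank k k' ≤ U.card := by
    have hspan' : Submodule.span k ((U.image fun x => algebraMap B k' x : Finset k') : Set k') = ⊤ := by
      rw [eq_top_iff]
      intro x hx
      clear hx
      obtain ⟨x, rfl⟩ := Ideal.Quotient.mk_surjective x
      induction x using TensorProduct.induction_on with
      | zero => simp
      | add a b ha hb => rw [map_add]; exact add_mem ha hb
      | tmul c b =>
        have hb : b ∈ Submodule.span A (U : Set B) := hU ▸ Submodule.mem_top
        induction hb using Submodule.span_induction with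
        | mem b hb =>
          have : Ideal.Quotient.mk M (c ⊗ₜ[A] b) = c • algebraMap B k' b := by
            show _ = Ideal.Quotient.mkₐ k M (c • ((1 : k) ⊗ₜ[A] b))
            rw [TensorProduct.smul_tmul', smul_eq_mul, mul_one]
            rfl
          rw [this]
          exact Submodule.smul_mem _ _ (Submodule.subset_span (Finset.mem_image_of_mem _ hb))
        | zero => simp
        | add a b _ _ ha hb => rw [TensorProduct.tmul_add, map_add]; exact add_mem ha hb
        | smul t a _ ha =>
          rw [TensorProduct.tmul_smul, ← IsScalarTower.algebraMap_smul k t (c ⊗ₜ[A] a)]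
          exact (Submodule.span k _).smul_mem _ ha
    rw [← finrank_top (R := k) (M := k'), ← hspan']
    exact (finrank_span_finset_le_card _).trans Finset.card_image_le
  have hak : algebraMap A k' a ≠ 0 := by
    rw [IsScalarTower.algebraMap_apply A k k']
    exact (map_ne_zero _).2 hk
  obtain ⟨t, ht⟩ := Ideal.mem_span_singleton'.1 (Ideal.mem_comap.1 ha)
  have hb₀k : algebraMap B k' b₀ ≠ 0 := fun h => hak (by
    rw [IsScalarTower.algebraMap_apply A B k', ← ht, map_mul, h, mul_zero])
  simp only [b₀, map_mul, mul_ne_zero_iff] at hb₀k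
  obtain ⟨hk1, hks₁, hks₂⟩ := hb₀k
  let Gk := Ideal.span (Set.range fun j => map (algebraMap B k') (g j))
  have hGrad : Gk.IsRadical := (isReduced_tensor_iff k' g).1 (hred k' hk1)
  let Ik := Ideal.span (Set.range fun i => map (algebraMap A k) (F i))
  have hIk : Ik.map (map (algebraMap k k')) = Ideal.span (Set.range fun i => map (algebraMap B k') (FB i)) := by
    rw [Ideal.map_span, ← Set.range_comp]
    refine congrArg Ideal.span (congrArg Set.range (funext fun i => ?_))
    simp only [Function.comp_apply, FB, MvPolynomial.map_map, ← IsScalarTower.algebraMap_eq]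
  have hradk : (Ik.map (map (algebraMap k k'))).radical = Gk := by
    rw [hIk]
    refine le_antisymm (hGrad.radical_le_iff.2 (Ideal.span_le.2 ?_)) (Ideal.span_le.2 ?_)
    · rintro _ ⟨i, rfl⟩
      have h1 := congrArg (map (algebraMap B k')) (hFg' i)
      rw [map_mul, map_C, map_sum] at h1
      have h2 : map (algebraMap B k') (FB i) =
          C (algebraMap B k' s₁)⁻¹ * ∑ j, map (algebraMap B k') (d' (i, j) * g j) := by
        rw [← h1, ← mul_assoc, ← C_mul, inv_mul_cancel₀ hks₁, C_1, one_mul]
      show map (algebraMap B k') (FB i) ∈ Gk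
      rw [h2]
      refine Ideal.mul_mem_left _ _ (Ideal.sum_mem _ fun j _ => ?_)
      rw [map_mul]
      exact Ideal.mul_mem_left _ _ (Ideal.subset_span ⟨j, rfl⟩)
    · rintro _ ⟨j, rfl⟩
      refine ⟨n, ?_⟩
      have h1 := congrArg (map (algebraMap B k')) (hgF' j)
      rw [map_mul, map_C, map_sum, map_pow] at h1
      have h2 : map (algebraMap B k') (g j) ^ n =
          C (algebraMap B k' s₂)⁻¹ * ∑ i, map (algebraMap B k') (c' (j, i) * FB i) := by
        rw [← h1, ← mul_assoc, ← C_mul, inv_mul_cancel₀ hks₂, C_1, one_mul]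
      rw [h2]
      refine Ideal.mul_mem_left _ _ (Ideal.sum_mem _ fun i _ => ?_)
      rw [map_mul]
      exact Ideal.mul_mem_left _ _ (Ideal.subset_span ⟨i, rfl⟩)
  have hfinal := hR k k' (fun j => map (algebraMap B k') (g j)) hdim fun j =>
    (totalDegree_map_le _ _).trans (Finset.le_sup (f := fun j => (g j).totalDegree) (Finset.mem_univ j))
  rwa [show Ideal.span (Set.range fun j => map (algebraMap B k') (g j)) = (Ik.map (map (algebraMap k k'))).radical
    from hradk.symm, Ideal.comap_radical, comap_map_eq (Module.finBasis k k')] at hfinal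

/-- Uniform bound for generators of radicals of ideals generated in bounded degree over all fields. -/
theorem exists_rad_bound (N m r : ℕ) :
    ∃ R : ℕ, ∀ (k : Type u) [Field k] (p : Fin r → MvPolynomial (Fin N) k),
      (∀ i, (p i).totalDegree ≤ m) → GenLE (Ideal.span (Set.range p)).radical R := by
  let A := Univ.{u} (Fin r) N m
  haveI : IsNoetherianRing A := isNoetherianRing_univ _ _ _
  obtain ⟨R, hR⟩ := uniform (A := A)
    (fun k _ φ R => GenLE (Ideal.span (Set.range fun i => map φ (univPoly (Fin r) N m i))).radical R)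
    (fun k _ φ R R' h hle => h.mono hle) (fun B _ _ _ q => by
      obtain ⟨b, hb, R, hR⟩ := rad_core (fun i => map q (univPoly (Fin r) N m i))
      refine ⟨b, hb, R, fun k _ _ hk => ?_⟩
      have := hR k hk
      simp only [MvPolynomial.map_map] at this
      exact this)
  refine ⟨R, fun k _ p hp => ?_⟩
  obtain ⟨φ, hφ⟩ := exists_map_univPoly p hp
  have := hR k φ
  simpa only [hφ] using this

end Groth.Agent.DegBound
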