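import Groth.Agent.DegBound.Basic
import Groth.Agent.S0389

/-!
Uniform degree bounds for generators of modules of syzygies over fields.
-/

set_option autoImplicit false
set_option linter.style.haveILetI false

universe u

namespace Groth.Agent.DegBound

open MvPolynomial TensorProduct

variable {σ ι κ : Type} [Fintype ι]

/-- The module of syzygies of `v` is generated by syzygies with entries of total degree at most `R`. -/
def SyzLE {k : Type u} [CommRing k] (v : ι → κ → MvPolynomial σ k) (R : ℕ) : Prop :=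
  LinearMap.ker (Fintype.linearCombination (MvPolynomial σ k) v) ≤
    Submodule.span (MvPolynomial σ k)
      {c | c ∈ LinearMap.ker (Fintype.linearCombination (MvPolynomial σ k) v) ∧ ∀ i, (c i).totalDegree ≤ R}

theorem SyzLE.mono {k : Type u} [CommRing k] {v : ι → κ → MvPolynomial σ k} {R R' : ℕ} (h : SyzLE v R)
    (hR : R ≤ R') : SyzLE v R' :=
  h.trans (Submodule.span_mono fun _ hc => ⟨hc.1, fun i => (hc.2 i).trans hR⟩)

variable {A : Type u} [CommRing A]

theorem linearCombination_pi (v : ι → κ → MvPolynomial σ A) (S : Type u) [CommRing S] [Algebra A S]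
    (c : ι → MvPolynomial σ A) :
    Fintype.linearCombination (MvPolynomial σ S) (fun i => pi A S σ κ (v i)) (pi A S σ ι c) =
      pi A S σ κ (Fintype.linearCombination (MvPolynomial σ A) v c) := by
  simp only [Fintype.linearCombination_apply, map_sum, pi_smul]
  rfl

theorem pi_pi (S T : Type u) [CommRing S] [CommRing T] [Algebra A S] [Algebra S T] [Algebra A T]
    [IsScalarTower A S T] {γ : Type} (c : γ → MvPolynomial σ A) :
    pi S T σ γ (pi A S σ γ c) = pi A T σ γ c :=
  funext fun i => by simp only [pi_apply, MvPolynomial.map_map, ← IsScalarTower.algebraMap_eq]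

theorem syz_core [Finite σ] [Fintype κ] [IsDomain A] [IsNoetherianRing A] (v : ι → κ → MvPolynomial σ A) :
    ∃ f : A, f ≠ 0 ∧ ∃ R : ℕ, ∀ (k : Type u) [Field k] [Algebra A k], algebraMap A k f ≠ 0 →
      SyzLE (fun i => pi A k σ κ (v i)) R := by
  classical
  let Φ : (ι → MvPolynomial σ A) →ₗ[MvPolynomial σ A] (κ → MvPolynomial σ A) :=
    Fintype.linearCombination (MvPolynomial σ A) v
  let Q := (κ → MvPolynomial σ A) ⧸ LinearMap.range Φ
  obtain ⟨f, hf, hfree, -⟩ := S0389.result (R := A) (S := MvPolynomial σ A) (M := Q)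
  let S := Localization.Away f
  haveI : IsNoetherianRing S := IsLocalization.isNoetherianRing (Submonoid.powers f) S inferInstance
  let w : ι → κ → MvPolynomial σ S := fun i => pi A S σ κ (v i)
  let Ψ : (ι → MvPolynomial σ S) →ₗ[MvPolynomial σ S] (κ → MvPolynomial σ S) :=
    Fintype.linearCombination (MvPolynomial σ S) w
  have hΨ : ∀ c, Ψ (pi A S σ ι c) = pi A S σ κ (Φ c) := linearCombination_pi v S
  let L : Submodule S (κ → MvPolynomial σ S) := LinearMap.range (Ψ.restrictScalars S)
  -- the cokernel is free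
  obtain ⟨G, hG⟩ := exists_lift (S := S) (P := S ⊗[A] Q)
    ((TensorProduct.mk A S Q 1) ∘ₗ ((LinearMap.range Φ).mkQ.restrictScalars A))
  have hL : L ≤ LinearMap.ker G := by
    rintro _ ⟨x, rfl⟩
    have hx : x ∈ Submodule.span S (Set.range (pi A S σ ι)) := by rw [span_range_pi]; trivial
    induction hx using Submodule.span_induction with
    | mem x hx =>
      obtain ⟨c, rfl⟩ := hx
      rw [LinearMap.mem_ker, LinearMap.restrictScalars_apply, hΨ, hG]
      have : (LinearMap.range Φ).mkQ (Φ c) = 0 :=
        (Submodule.Quotient.mk_eq_zero _).2 (LinearMap.mem_range_self Φ c)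
      simp only [LinearMap.comp_apply, LinearMap.restrictScalars_apply, this, map_zero]
    | zero => simp
    | add a b _ _ ha hb => rw [map_add]; exact add_mem ha hb
    | smul r a _ ha => rw [map_smul]; exact Submodule.smul_mem _ r ha
  let g₀ : Q →ₗ[A] (κ → MvPolynomial σ S) ⧸ L :=
    (((LinearMap.range Φ).restrictScalars A).liftQ ((L.mkQ.restrictScalars A) ∘ₗ pi A S σ κ) (by
      rintro _ ⟨c, rfl⟩
      exact (Submodule.Quotient.mk_eq_zero L).2 ⟨pi A S σ ι c, hΨ c⟩)) ∘ₗ
    (Submodule.Quotient.restrictScalarsEquiv A (LinearMap.range Φ)).symm.toLinearMap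
  have hg₀ : ∀ c, g₀ ((LinearMap.range Φ).mkQ c) = L.mkQ (pi A S σ κ c) := fun c => rfl
  let e : S ⊗[A] Q ≃ₗ[S] (κ → MvPolynomial σ S) ⧸ L :=
    LinearEquiv.ofLinearMap (g₀.liftBaseChange S) (L.liftQ G hL)
      (by
        refine Submodule.linearMap_qext _ (LinearMap.ext_on_range (span_range_pi (A := A) (S := S) (σ := σ) (ι := κ)) fun c => ?_)
        simp only [LinearMap.comp_apply, Submodule.liftQ_apply, Submodule.mkQ_apply, hG, LinearMap.id_apply,
          LinearMap.restrictScalars_apply, TensorProduct.mk_apply, LinearMap.liftBaseChange_tmul, one_smul]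
        exact hg₀ c)
      (by
        ext q
        obtain ⟨c, rfl⟩ := Submodule.mkQ_surjective _ q
        show L.liftQ G hL (g₀.liftBaseChange S ((1 : S) ⊗ₜ[A] (LinearMap.range Φ).mkQ c)) = (1 : S) ⊗ₜ[A] (LinearMap.range Φ).mkQ c
        rw [LinearMap.liftBaseChange_tmul, one_smul, hg₀, Submodule.mkQ_apply, Submodule.liftQ_apply, hG]
        rfl)
  haveI : Module.Free S ((κ → MvPolynomial σ S) ⧸ L) := Module.Free.of_equiv e
  obtain ⟨s, hs⟩ := Module.projective_lifting_property L.mkQ LinearMap.id L.mkQ_surjective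
  let p : (κ → MvPolynomial σ S) →ₗ[S] L := (LinearMap.id - s ∘ₗ L.mkQ).codRestrict L fun x => by
    rw [← Submodule.Quotient.mk_eq_zero]
    show L.mkQ (x - s (L.mkQ x)) = 0
    rw [map_sub, ← LinearMap.comp_apply L.mkQ s, hs, LinearMap.id_apply, sub_self]
  have hp : ∀ y : L, p y = y := fun y => Subtype.ext (by
    show (y : κ → MvPolynomial σ S) - s (L.mkQ y) = y
    rw [Submodule.mkQ_apply, (Submodule.Quotient.mk_eq_zero L).2 y.2, map_zero, sub_zero])
  haveI : Module.Projective S L := Module.Projective.of_split L.subtype p (LinearMap.ext hp)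
  obtain ⟨t, ht⟩ := Module.projective_lifting_property (Ψ.restrictScalars S).rangeRestrict LinearMap.id
    (Ψ.restrictScalars S).surjective_rangeRestrict
  let ψ : (κ → MvPolynomial σ S) →ₗ[S] (ι → MvPolynomial σ S) := t ∘ₗ p
  have hψ : ∀ x, Ψ (x - ψ (Ψ x)) = 0 := fun x => by
    have h1 : Ψ (ψ (Ψ x)) = Ψ x := by
      have h2 := congrArg Subtype.val (LinearMap.congr_fun ht (p (Ψ x)))
      simp only [LinearMap.comp_apply, LinearMap.id_apply] at h2
      exact h2.trans (congrArg Subtype.val (hp ⟨Ψ x, x, rfl⟩))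
    rw [map_sub, h1, sub_self]
  obtain ⟨T, hT⟩ := IsNoetherian.noetherian (LinearMap.ker Ψ)
  refine ⟨f, hf, T.sup (fun g => Finset.univ.sup fun i => (g i).totalDegree), fun k _ _ hk => ?_⟩
  letI : Algebra S k := (IsLocalization.Away.lift (S := S) f (g := algebraMap A k) (IsUnit.mk0 _ hk)).toAlgebra
  haveI : IsScalarTower A S k := .of_algebraMap_eq fun x => (IsLocalization.Away.lift_eq f _ x).symm
  let wk : ι → κ → MvPolynomial σ k := fun i => pi A k σ κ (v i)
  let Φk : (ι → MvPolynomial σ k) →ₗ[MvPolynomial σ k] (κ → MvPolynomial σ k) :=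
    Fintype.linearCombination (MvPolynomial σ k) wk
  have hwk : (fun i => pi S k σ κ (w i)) = wk := funext fun i => pi_pi S k (v i)
  have hΦk : ∀ x, Φk (pi S k σ ι x) = pi S k σ κ (Ψ x) := fun x => by
    simp only [Φk, ← hwk]
    exact linearCombination_pi w k x
  obtain ⟨ψk, hψk⟩ := exists_lift (S := k) (P := ι → MvPolynomial σ k) (pi S k σ ι ∘ₗ ψ)
  let U : Submodule (MvPolynomial σ k) (ι → MvPolynomial σ k) :=
    Submodule.span _ (pi S k σ ι '' (T : Set (ι → MvPolynomial σ S)))
  have hker : ∀ z ∈ LinearMap.ker Ψ, pi S k σ ι z ∈ U := by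
    intro z hz
    rw [← hT] at hz
    induction hz using Submodule.span_induction with
    | mem z hz => exact Submodule.subset_span ⟨z, hz, rfl⟩
    | zero => simp
    | add a b _ _ ha hb => rw [map_add]; exact add_mem ha hb
    | smul r a _ ha => rw [pi_smul]; exact U.smul_mem _ ha
  have hU : ∀ x : ι → MvPolynomial σ k, x - ψk (Φk x) ∈ U := by
    intro x
    have hx : x ∈ Submodule.span k (Set.range (pi S k σ ι)) := by rw [span_range_pi]; trivial
    induction hx using Submodule.span_induction with
    | mem x hx =>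
      obtain ⟨c, rfl⟩ := hx
      rw [hΦk, hψk, LinearMap.comp_apply, ← map_sub]
      exact hker _ (hψ c)
    | zero => simp
    | add a b _ _ ha hb =>
      rw [map_add, map_add, add_sub_add_comm]
      exact add_mem ha hb
    | smul r a _ ha =>
      rw [LinearMap.map_smul_of_tower, map_smul, ← smul_sub]
      exact Submodule.smul_of_tower_mem U r ha
  intro x hx
  have h3 := hU x
  rw [show Φk x = 0 from hx, map_zero, sub_zero] at h3
  refine Submodule.span_mono ?_ h3
  rintro _ ⟨g, hg, rfl⟩
  refine ⟨?_, fun i => (totalDegree_map_le _ _).trans ?_⟩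
  · show Φk _ = 0
    rw [hΦk, show Ψ g = 0 from hT.le (Submodule.subset_span hg), map_zero]
  · exact le_trans (Finset.le_sup (f := fun i => (g i).totalDegree) (Finset.mem_univ i))
      (Finset.le_sup (f := fun g => Finset.univ.sup fun i => (g i).totalDegree) hg)

/-- Uniform bound for syzygies of vectors of bounded degree over all fields. -/
theorem exists_syz_bound (N d : ℕ) (ι κ : Type) [Fintype ι] [Fintype κ] :
    ∃ R : ℕ, ∀ (k : Type u) [Field k] (v : ι → κ → MvPolynomial (Fin N) k),
      (∀ i j, (v i j).totalDegree ≤ d) → SyzLE v R := by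
  let A := Univ.{u} (ι × κ) N d
  haveI : IsNoetherianRing A := isNoetherianRing_univ _ _ _
  let V : ι → κ → MvPolynomial (Fin N) A := fun i j => univPoly (ι × κ) N d (i, j)
  obtain ⟨R, hR⟩ := uniform (A := A) (fun k _ φ R => SyzLE (fun i j => map φ (V i j)) R)
    (fun k _ φ R R' h hle => h.mono hle) (fun B _ _ _ q => by
      obtain ⟨b, hb, R, hR⟩ := syz_core (fun i j => map q (V i j))
      refine ⟨b, hb, R, fun k _ _ hk => ?_⟩
      have e : (fun i => pi B k (Fin N) κ (fun j => map q (V i j))) =
          fun i j => map ((algebraMap B k).comp q) (V i j) :=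
        funext fun i => funext fun j => by rw [pi_apply, MvPolynomial.map_map]
      exact e ▸ hR k hk)
  refine ⟨R, fun k _ v hv => ?_⟩
  obtain ⟨φ, hφ⟩ := exists_map_univPoly (fun x : ι × κ => v x.1 x.2) fun x => hv x.1 x.2
  have := hR k φ
  simpa only [V, hφ] using this

end Groth.Agent.DegBound
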